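import Cfsg.Agent.Lib.Grp.SuzIdent.Normal
import Cfsg.Agent.Lib.Lie.Sz.Zassenhaus
import Cfsg.Agent.Lib.Lie.Sz.LieEquiv
import Cfsg.Agent.Lib.Block.Zas.Setup
import Cfsg.Agent.S0344

/-!
A simple Zassenhaus group with a nonabelian kernel is a Suzuki group.
-/

set_option autoImplicit false
set_option linter.style.haveILetI false
set_option linter.unusedSectionVars false

namespace Cfsg.Agent.Grp.SuzIdent

open MulAction Cfsg.Agent.Block.Zas Cfsg.Agent.Grp

universe u v u' v'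

/-- In a finite field of odd degree over the field of two elements, at most one automorphism has its fourth
power inverse to the squaring map. -/
theorem phi_unique {K : Type} [Field K] [Fintype K] [CharP K 2] {n : ℕ} (hn : Odd n)
    (hK : Fintype.card K = 2 ^ n) {φ φ' : K ≃+* K} (hB : ∀ c, φ (φ c) * φ (φ c) = c)
    (hB' : ∀ c, φ' (φ' c) * φ' (φ' c) = c) : φ = φ' := by
  classical
  have h2 := CharTwo.two_eq_zero (R := K)
  have hsq : ∀ x, φ (φ x) = φ' (φ' x) := fun x => by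
    have h : (φ (φ x) - φ' (φ' x)) * (φ (φ x) - φ' (φ' x)) = 0 := by
      linear_combination hB x - hB' x + (φ' (φ' x) * φ' (φ' x) - φ (φ x) * φ' (φ' x)) * h2
    exact sub_eq_zero.1 (mul_self_eq_zero.1 h)
  obtain ⟨A, -, -, hA⟩ := exists_exponent (fun x : K => φ x) (map_mul φ) (map_zero φ) (map_one φ)
  have hcomm : ∀ x, φ (φ' x) = φ' (φ x) := fun x => by rw [hA, hA, map_pow]
  let σ : K ≃+* K := φ.trans φ'.symm
  have hσ : ∀ x, σ x = φ'.symm (φ x) := fun _ => rfl
  have hσσ : ∀ x, σ (σ x) = x := fun x => by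
    rw [hσ, hσ]
    have h : φ (φ'.symm (φ x)) = φ'.symm (φ (φ x)) :=
      φ'.injective (by rw [← hcomm, RingEquiv.apply_symm_apply, RingEquiv.apply_symm_apply])
    rw [h, hsq, RingEquiv.symm_apply_apply, RingEquiv.symm_apply_apply]
  have hone : ∀ x, σ x = x := by
    by_contra hc
    push Not at hc
    obtain ⟨w, hw⟩ := hc
    let N : K →+ K := AddMonoidHom.mk' (fun x => x + σ x) (fun x y => by rw [map_add]; ring)
    have hN : ∀ x, N x = x + σ x := fun _ => rfl
    have hker : ∀ x, x ∈ N.ker ↔ σ x = x := fun x => by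
      rw [AddMonoidHom.mem_ker, hN]
      exact ⟨fun h => (CharTwo.add_eq_zero.1 h).symm, fun h => by rw [h, CharTwo.add_self_eq_zero]⟩
    have hu : w + σ w ≠ 0 := fun e => hw (CharTwo.add_eq_zero.1 e).symm
    have hrange : N.range = N.ker := by
      ext x
      rw [hker]
      constructor
      · rintro ⟨y, rfl⟩
        rw [hN, map_add, hσσ, add_comm]
      · intro hx
        refine ⟨w * (x / (w + σ w)), ?_⟩
        rw [hN, map_mul, map_div₀, map_add, hσσ, hx, add_comm (σ w) w, ← add_mul,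
          mul_div_cancel₀ _ hu]
    have hcard : Nat.card K = Nat.card N.ker * Nat.card N.ker := by
      rw [← N.ker.index_mul_card, AddSubgroup.index_ker, hrange]
    have hdvd : Nat.card N.ker ∣ 2 ^ n := by
      rw [← hK, ← Nat.card_eq_fintype_card, hcard]
      exact dvd_mul_right _ _
    obtain ⟨j, -, hj⟩ := (Nat.dvd_prime_pow Nat.prime_two).1 hdvd
    rw [hj, Nat.card_eq_fintype_card, hK, ← pow_add] at hcard
    obtain ⟨k, hk⟩ := hn
    have := Nat.pow_right_injective le_rfl hcard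
    omega
  refine RingEquiv.ext fun x => ?_
  have := congrArg φ' (hone x)
  rwa [hσ, RingEquiv.apply_symm_apply] at this

section Iso

variable {G : Type u} {Ω : Type v} [Group G] [MulAction G Ω] [Finite G]
  {G' : Type u'} {Ω' : Type v'} [Group G'] [MulAction G' Ω'] [Finite G']

/-- Two normalised systems over one field give isomorphic groups. -/
theorem iso_of_normal {D : Frame G Ω} {D' : Frame G' Ω'} {K : Type} [Field K] [Finite K] [CharP K 2]
    {φ : K ≃+* K} (C : Coords D K φ) (C' : Coords D' K φ) {t : G} {t' : G'} (S : IsSwap D t)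
    (S' : IsSwap D' t') (R : Rules φ 1 0 (tauOf C t)) (R' : Rules φ 1 0 (tauOf C' t'))
    (hn : 2 ≤ Nat.card D.F) (hn' : 2 ≤ Nat.card D'.F) (hcard : Nat.card G = Nat.card G') :
    Nonempty (G ≃* G') := by
  classical
  let ε : Ω → Ω' := fun x => if h : x = D.a then D'.a else C'.pt (C.exists_pt h).choose
  have εa : ε D.a = D'.a := dif_pos rfl
  have εp : ∀ p, ε (C.pt p) = C'.pt p := fun p => by
    show (if h : C.pt p = D.a then D'.a else C'.pt (C.exists_pt h).choose) = _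
    rw [dif_neg (C.pt_ne p), C.pt_inj (C.exists_pt (C.pt_ne p)).choose_spec]
  have cases' : ∀ x : Ω, x = D.a ∨ ∃ p, x = C.pt p := fun x => by
    by_cases h : x = D.a
    · exact Or.inl h
    · obtain ⟨p, hp⟩ := C.exists_pt h
      exact Or.inr ⟨p, hp.symm⟩
  have εsurj : ∀ y : Ω', ∃ x, ε x = y := fun y => by
    by_cases h : y = D'.a
    · exact ⟨D.a, εa.trans h.symm⟩
    · obtain ⟨p, hp⟩ := C'.exists_pt h
      exact ⟨C.pt p, (εp p).trans hp⟩
  have εinj : Function.Injective ε := by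
    intro x y hxy
    rcases cases' x with rfl | ⟨p, rfl⟩ <;> rcases cases' y with rfl | ⟨q, rfl⟩
    · rfl
    · rw [εa, εp] at hxy; exact absurd hxy.symm (C'.pt_ne q)
    · rw [εa, εp] at hxy; exact absurd hxy (C'.pt_ne p)
    · rw [εp, εp] at hxy; exact congrArg C.pt (C'.pt_inj hxy)
  let P : G → G' → Prop := fun g g' => ∀ x, ε (g • x) = g' • ε x
  have Pmul : ∀ {g h g' h'}, P g g' → P h h' → P (g * h) (g' * h') := fun hg hh x => by
    rw [mul_smul, mul_smul, hg, hh]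
  have Pinv : ∀ {g g'}, P g g' → P g⁻¹ g'⁻¹ := fun {g g'} hg x => by
    rw [eq_inv_smul_iff, ← hg, smul_inv_smul]
  have Puniq : ∀ {g g' g''}, P g g' → P g g'' → g' = g'' := fun {g g' g''} h1 h2 => by
    refine (inv_mul_eq_one.1 (D'.faithful hn' fun y => ?_)).symm
    obtain ⟨x, rfl⟩ := εsurj y
    rw [mul_smul, inv_smul_eq_iff, ← h1, ← h2]
  have Pe : ∀ p, P (C.e p) (C'.e p) := fun p x => by
    rcases cases' x with rfl | ⟨q, rfl⟩
    · rw [D.F_fix _ (C.mem p), εa, D'.F_fix _ (C'.mem p)]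
    · rw [C.e_smul_pt, εp, εp, C'.e_smul_pt]
  have Ph : ∀ c, c ≠ 0 → P (C.h c) (C'.h c) := fun c hc x => by
    rcases cases' x with rfl | ⟨q, rfl⟩
    · rw [(C.h_mem c hc).1, εa, (C'.h_mem c hc).1]
    · rw [C.h_smul_pt hc, εp, εp, C'.h_smul_pt hc]
  have Pt : P t t' := fun x => by
    rcases cases' x with rfl | ⟨q, rfl⟩
    · rw [S.ta, ← C.pt_zero, εp, εa, S'.ta, C'.pt_zero]
    · rw [εp]
      by_cases hq : q = 0
      · subst hq
        rw [smul_t_pt_zero C S, εa, smul_t_pt_zero C' S']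
      · rw [← pt_tauOf C S hq, εp, R.unique R' hq, pt_tauOf C' S' hq]
  have Pex : ∀ g : G, ∃ g', P g g' := by
    intro g
    have hfix : ∀ k : G, k • D.a = D.a → ∃ k', P k k' := fun k hk => by
      obtain ⟨u, hu, h, hh, rfl⟩ := D.decomp hk
      obtain ⟨p, rfl⟩ := C.surj u hu
      obtain ⟨c, hc, rfl⟩ := C.h_surj h hh
      exact ⟨_, Pmul (Pe p) (Ph c hc)⟩
    by_cases hg : g • D.a = D.a
    · exact hfix g hg
    · obtain ⟨p, hp⟩ := C.exists_pt hg
      obtain ⟨k', hk'⟩ := hfix (t * (C.e p)⁻¹ * g) (by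
        rw [mul_smul, mul_smul, ← hp, show (C.e p)⁻¹ • C.pt p = D.b from inv_smul_smul _ _, S.tb])
      refine ⟨C'.e p * t' * k', ?_⟩
      have h := Pmul (Pmul (Pe p) Pt) hk'
      rwa [show C.e p * t * (t * (C.e p)⁻¹ * g) = g by
        calc C.e p * t * (t * (C.e p)⁻¹ * g) = C.e p * (t * t) * (C.e p)⁻¹ * g := by group
          _ = g := by rw [S.t2]; group] at h
  choose f hf using Pex
  let F : G →* G' := MonoidHom.mk' f fun g h => Puniq (hf _) (Pmul (hf g) (hf h))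
  have hinj : Function.Injective F := (injective_iff_map_eq_one F).2 fun g hg => D.faithful hn fun x => by
    have h := hf g x
    rw [show f g = 1 from hg, one_smul] at h
    exact εinj h
  exact ⟨MulEquiv.ofBijective F ((Nat.bijective_iff_injective_and_card F).2 ⟨hinj, hcard⟩)⟩

end Iso

/-- A simple Zassenhaus group with a nonabelian kernel of two-power order is a Suzuki group. -/
theorem isoSuzuki_of_nonabelian {G : Type u} {Ω : Type v} [Group G] [MulAction G Ω] [Finite G]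
    [IsSimpleGroup G] (D : Frame G Ω) (hn : 2 ≤ Nat.card D.F) (hH : D.H ≠ ⊥) (h2 : IsPGroup 2 D.F)
    (hna : ∃ x y : D.F, x * y ≠ y * x) : Cfsg.Lie.IsoSuzuki G := by
  classical
  obtain ⟨n, K, iK, iK', φ, C, t, hno, hn1, hK, hF, hHc, hchar, hB, S, -, R⟩ := exists_normal D hn hH h2 hna
  haveI := hchar
  obtain ⟨m, rfl⟩ := hno
  have hS : Suz.SzField K m := ⟨by omega, hK⟩
  haveI : IsSimpleGroup ↥(Cfsg.Sz K m) := Suz.isSimple hS
  have hZ := Suz.isZassenhaus hS
  let a' : suzukiOvoid K m := ⟨Suz.pt m none, Suz.mem_ovoid_iff.2 ⟨_, rfl⟩⟩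
  let b' : suzukiOvoid K m := ⟨Suz.pt m (some (0, 0)), Suz.mem_ovoid_iff.2 ⟨_, rfl⟩⟩
  have hab : a' ≠ b' := fun e => Suz.pt_ne hS (o := none) (o' := some ((0 : K), 0)) (by simp) (congrArg Subtype.val e)
  have hle : Suz.unip hS ≤ MulAction.stabilizer (↥(Cfsg.Sz K m)) a' := fun g hg =>
    Subtype.ext (Suz.unip_le_borel hS hg)
  have hnorm : ((Suz.unip hS).subgroupOf (MulAction.stabilizer (↥(Cfsg.Sz K m)) a')).Normal :=
    ⟨fun u hu g => (Subgroup.mem_normalizer_iff.1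
      (Suz.borel_le_normalizer hS (congrArg Subtype.val g.2)) _).1 hu⟩
  have hreg : ∀ y z : suzukiOvoid K m, y ≠ a' → z ≠ a' → ∃! u : Suz.unip hS,
      (u : ↥(Cfsg.Sz K m)) • y = z := by
    have hex : ∀ y : suzukiOvoid K m, y ≠ a' → ∃ a b : K, Suz.uS hS a b • b' = y := fun y hy => by
      obtain ⟨o, ho⟩ := Suz.mem_ovoid_iff.1 y.2
      rcases o with _ | ⟨a, b⟩
      · exact absurd (Subtype.ext ho.symm) hy
      · exact ⟨a, b, Subtype.ext ((Suz.uS_pt_zero hS a b).trans ho)⟩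
    intro y z hy hz
    obtain ⟨a, b, rfl⟩ := hex y hy
    obtain ⟨c, d, rfl⟩ := hex z hz
    refine ⟨⟨Suz.uS hS c d * (Suz.uS hS a b)⁻¹, mul_mem ((Suz.mem_unip hS).2 ⟨_, _, rfl⟩)
      (inv_mem ((Suz.mem_unip hS).2 ⟨_, _, rfl⟩))⟩, ?_, fun u hu => Subtype.ext ?_⟩
    · show (Suz.uS hS c d * (Suz.uS hS a b)⁻¹) • Suz.uS hS a b • b' = _
      rw [mul_smul, inv_smul_smul]
    · obtain ⟨x, y', hxy⟩ := (Suz.mem_unip hS).1 (mul_mem u.2 ((Suz.mem_unip hS).2 ⟨a, b, rfl⟩))
      have h : Suz.uS hS x y' • b' = Suz.uS hS c d • b' := by rw [← hxy, mul_smul]; exact hu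
      have h' := congrArg Subtype.val h
      replace h' : Suz.uS hS x y' • Suz.pt m (some ((0 : K), 0)) =
          Suz.uS hS c d • Suz.pt m (some ((0 : K), 0)) := h'
      rw [Suz.uS_pt_zero, Suz.uS_pt_zero] at h'
      obtain ⟨rfl, rfl⟩ : x = c ∧ y' = d := by
        have := Suz.pt_injective (m := m) h'
        simpa using this
      exact eq_mul_inv_of_mul_eq hxy
  let D' := frameOf hZ hab (Suz.unip hS) hle hnorm hreg
  have hn' : 2 ≤ Nat.card D'.F := Frame.two_le_F D' hZ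
  have hF' : Nat.card D'.F = (2 ^ (2 * m + 1)) ^ 2 := Suz.card_unip hS
  have h2' : IsPGroup 2 D'.F := IsPGroup.of_card (n := (2 * m + 1) * 2) (by rw [hF', ← pow_mul])
  have hna' : ∃ x y : D'.F, x * y ≠ y * x := by
    obtain ⟨w, hw0, hw1⟩ := Suz.exists_ne_zero_one hS
    refine ⟨⟨Suz.uS hS 1 0, (Suz.mem_unip hS).2 ⟨_, _, rfl⟩⟩, ⟨Suz.uS hS w 0, (Suz.mem_unip hS).2 ⟨_, _, rfl⟩⟩,
      fun e => ?_⟩
    have e' := congrArg Subtype.val e
    replace e' : Suz.uS hS 1 0 * Suz.uS hS w 0 = Suz.uS hS w 0 * Suz.uS hS 1 0 := e'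
    rw [Suz.uS_mul, Suz.uS_mul] at e'
    have e2 : Suz.th m w = w := by
      simpa [Suz.th_one, eq_comm] using (Suz.uS_injective hS e').2
    have e3 := Suz.th_th hS w
    rw [e2, e2] at e3
    exact hw1 (mul_left_cancel₀ hw0 (by linear_combination -e3))
  obtain ⟨n', K', iL, iL', φ', C', t', hno', hn1', hK', hF'', hHc', hchar', hB', S', hrel', R'⟩ :=
    exists_normal D' hn' (D'.H_ne_bot hZ) h2' hna'
  haveI := hchar'
  have hnn : n' = 2 * m + 1 := by
    have h := hF''.symm.trans hF'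
    rw [← pow_mul, ← pow_mul] at h
    have := Nat.pow_right_injective le_rfl h
    omega
  subst hnn
  let ψ : K ≃+* K' := FiniteField.ringEquivOfCardEq (hK.trans hK'.symm)
  let φ'' : K ≃+* K := (ψ.trans φ').trans ψ.symm
  have hB'' : ∀ c, φ'' (φ'' c) * φ'' (φ'' c) = c := fun c => by
    simp only [φ'', RingEquiv.trans_apply, RingEquiv.apply_symm_apply]
    rw [← map_mul, hB', RingEquiv.symm_apply_apply]
  have hφ : φ = φ'' := phi_unique ⟨m, rfl⟩ hK hB hB''
  have hψ : ∀ x, ψ (φ x) = φ' (ψ x) := fun x => by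
    rw [hφ]; simp [φ'']
  let C'' := C'.congr ψ hψ
  have R'' : Rules φ 1 0 (tauOf C'' t') := by
    refine rules C'' S' R.nid R.inj one_ne_zero ?_
    show t' * C'.e (ψ 0, ψ 1) * t' = C'.e (ψ 1, ψ 0) * t' * (C'.e (ψ 1, ψ 0))⁻¹
    rw [map_one, map_zero]
    exact hrel'
  obtain ⟨e⟩ := iso_of_normal C C'' S S' R R'' hn hn' (by
    rw [D.card_group, D'.card_group, hF, hF', hHc, hHc'])
  exact ⟨K, iK, iK', m, hS.one_le, hK, ⟨e.trans (Suz.szEquiv hS)⟩⟩

end Cfsg.Agent.Grp.SuzIdent
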