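import Cfsg.Agent.Lib.Grp.SuzIdent.Main
import Cfsg.Agent.Lib.Transfer.CIT.Main

/-!
Simple Zassenhaus groups and simple groups with 2-group involution centralisers, up to isomorphism.
-/

set_option autoImplicit false
set_option linter.style.haveILetI false

namespace Cfsg.Agent.Grp.SuzIdent

open MulAction Cfsg.Agent.Block.Zas Cfsg.Agent.Grp

/-- A finite simple Zassenhaus group is `PSL(2, F)` or a Suzuki group. -/
theorem simple_zassenhaus_iso {G Ω : Type*} [Group G] [Finite G] [MulAction G Ω] [Finite Ω]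
    (hZ : Cfsg.IsZassenhausGroup G Ω) [IsSimpleGroup G] :
    (∃ (F : Type) (_ : Field F) (_ : Fintype F),
      Nonempty (G ≃* Matrix.ProjectiveSpecialLinearGroup (Fin 2) F)) ∨ Cfsg.Lie.IsoSuzuki G := by
  classical
  obtain ⟨a, b, hab⟩ : ∃ a b : Ω, a ≠ b := by
    obtain ⟨g, -, a, b, hab, -, -⟩ := hZ.2.2.2.1
    exact ⟨a, b, hab⟩
  obtain ⟨D, rfl, rfl⟩ := frame_of_zassenhaus hZ hab
  have hn := D.two_le_F hZ
  have hH := D.H_ne_bot hZ
  rcases Nat.even_or_odd (Nat.card D.H) with he | ho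
  · obtain ⟨K, i1, i2, -, hiso⟩ := Cfsg.Agent.S0344.result hZ hab he
    exact Or.inl ⟨K, i1, i2, hiso⟩
  obtain ⟨-, hs⟩ := ZasS.swaps D hn hH
  rcases ZasS.feit_inequality _ G Ω D rfl hZ ho with h | ⟨h2, ⟨u, hu, v, hv, huv⟩, -⟩
  · left
    obtain ⟨t, ht⟩ := D.card_H_dvd
    have hd0 : 0 < Nat.card D.H := Nat.card_pos
    have ht2 : t ≤ 2 := by
      by_contra hc
      have : Nat.card D.H * 3 ≤ Nat.card D.H * t := Nat.mul_le_mul_left _ (by omega)
      omega
    have hcase : 2 * Nat.card D.H = Nat.card D.F - 1 ∨ Nat.card D.H = Nat.card D.F - 1 := by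
      interval_cases t <;> omega
    rcases hcase with hh | hh
    · obtain ⟨K, i1, i2, -, -, hiso⟩ :=
        D.iso_psl_of_half hn hH hh fun s ga gb => (hs s ga gb).2
      exact ⟨K, i1, i2, hiso⟩
    · obtain ⟨s, hsa, hsb⟩ := D.two D.hab D.b_ne
      obtain ⟨hs2, hinv⟩ := hs s hsa hsb
      obtain ⟨K, i1, i2, hK, ⟨e⟩⟩ := D.iso_pgl_of_inverted hn hH hh hs2 hsa hsb hinv
      obtain ⟨m, hm⟩ := ho
      obtain ⟨e'⟩ := ZasS.pgl_psl_two (K := K) ⟨m + 1, by omega⟩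
      exact ⟨K, i1, i2, ⟨e.trans e'⟩⟩
  · exact Or.inr (isoSuzuki_of_nonabelian D hn hH h2
      ⟨⟨u, hu⟩, ⟨v, hv⟩, fun e => huv (congrArg Subtype.val e)⟩)

end Cfsg.Agent.Grp.SuzIdent

namespace Cfsg.Agent.Transfer.CIT

open Subgroup

universe u

variable {G : Type u} [Group G] [Finite G]

/-- The classification of simple CIT groups, up to isomorphism. -/
theorem IsCIT.classification_iso (h : IsCIT G) [IsSimpleGroup G] (hG : ¬ IsMulCommutative G) :
    (∃ (F : Type) (_ : Field F) (_ : Fintype F),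
        (Fintype.card F = 9 ∨ (∃ n : ℕ, Fintype.card F = 2 ^ n) ∨
          ((Fintype.card F).Prime ∧ ∃ k : ℕ, Fintype.card F = 2 ^ k + 1 ∨ Fintype.card F + 1 = 2 ^ k)) ∧
        Nonempty (G ≃* Matrix.ProjectiveSpecialLinearGroup (Fin 2) F)) ∨
    (∃ (F : Type) (_ : Field F) (_ : Fintype F), Fintype.card F = 4 ∧
        Nonempty (G ≃* Matrix.ProjectiveSpecialLinearGroup (Fin 3) F)) ∨
    Cfsg.Lie.IsoSuzuki G := by
  classical
  haveI := Fact.mk Nat.prime_two
  rcases exists_pair h hG with ⟨M, hM, hSE⟩ | ⟨T, L, L', R, A, V, p⟩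
  · obtain ⟨S, rfl⟩ := h.sylow_of_embedded hM hSE
    obtain ⟨t, c⟩ := h.cfg hG S hSE
    rcases Grp.SuzIdent.simple_zassenhaus_iso c.zassenhaus with ⟨F, i1, i2, ⟨e⟩⟩ | hS
    · exact Or.inl ⟨F, i1, i2, h.field_card hG e, ⟨e⟩⟩
    · exact Or.inr (Or.inr hS)
  have h4 := p.o.card_W_le_four h p.o' p.hL'.le
  obtain ⟨k, hk⟩ := (p.o.hV.isPGroup.to_le (inf_le_right : A ⊓ V ≤ V)).exists_card_eq
  have h1 := (one_lt_card_iff_ne_bot _).2 (p.o.W_ne_bot h)
  have hk2 : k = 1 ∨ k = 2 := by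
    rcases k with _ | _ | _ | k
    · exact absurd (hk.trans (pow_zero 2)) h1.ne'
    · exact Or.inl rfl
    · exact Or.inr rfl
    · exfalso
      rw [hk] at h4
      have : 2 ^ 3 ≤ 2 ^ (k + 1 + 1 + 1) := Nat.pow_le_pow_right (by norm_num) (by omega)
      omega
  rcases hk2 with rfl | rfl
  · have hV4 : Nat.card V = 4 := by rw [p.o.card_V h, hk]; norm_num
    have hC : centralizer (V : Set G) = V := le_antisymm (fun x hx =>
        p.o.mem_core h (p.hL ▸ centralizer_le_normalizer _ hx) fun v hv =>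
          (mem_centralizer_iff.1 hx v hv).symm) fun v hv =>
      mem_centralizer_iff.2 fun w hw => p.o.hV.1 w hw v hv
    have hne : Nat.card (T : Subgroup G) ≠ 4 := fun e => by
      have h2 : V = R := Subgroup.eq_of_le_of_card_ge p.o.QR (by
        rw [hV4, ← e]; exact Subgroup.card_le_of_le p.RT)
      exact p.o.notle (h2 ▸ p.o.max.1)
    obtain ⟨F, i1, i2, ⟨e⟩⟩ :=
      h.of_selfCent_four hG hV4 hC p.o.hV.2 T ((p.o.VQ.trans p.o.QR).trans p.RT) hne
    exact Or.inl ⟨F, i1, i2, h.field_card hG e, ⟨e⟩⟩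
  · exact Or.inr (Or.inl (p.psl_three_four h hG hk))

end Cfsg.Agent.Transfer.CIT
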