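import Cfsg.Agent.Lib.Invol.SuzukiTypeAIso

/-!
Coordinates of a Suzuki 2-group of order the square of the order of its centre, in which a given
cyclic group of automorphisms regular on the involutions is diagonal.
-/

set_option autoImplicit false
set_option linter.style.haveILetI false

namespace Cfsg.Agent.Grp.SuzIdent

open Cfsg.Agent.Invol.TypeA

/-- Two models with the same squaring map are isomorphic over their projections and central embeddings. -/
theorem exists_mulEquiv {P Q : Type*} [Group P] [Group Q] [Finite P] [Finite Q] {F : Type*} [Field F] [Finite F]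
    [CharP F 2] {φ : F ≃+* F} {π : P → F} {ι : F → P} {π' : Q → F} {ι' : F → Q} (h : IsModel φ π ι)
    (h' : IsModel φ π' ι') : ∃ e : P ≃* Q, (∀ x, π' (e x) = π x) ∧ ∀ v, e (ι v) = ι' v := by
  classical
  let Fib : Subgroup (P × Q) :=
    { carrier := {x | π x.1 = π' x.2}
      one_mem' := by show π 1 = π' 1; rw [h.map_one, h'.map_one]
      mul_mem' := fun {a b} ha hb => by
        show π (a.1 * b.1) = π' (a.2 * b.2)
        rw [h.map_mul, h'.map_mul, show π a.1 = π' a.2 from ha, show π b.1 = π' b.2 from hb]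
      inv_mem' := fun {a} ha => by
        show π a.1⁻¹ = π' a.2⁻¹
        have h1 := h.map_mul a.1 a.1⁻¹
        have h2 := h'.map_mul a.2 a.2⁻¹
        rw [mul_inv_cancel, h.map_one] at h1
        rw [mul_inv_cancel, h'.map_one] at h2
        rw [show π a.1 = π' a.2 from ha] at h1
        linear_combination h2 - h1 }
  let Δ : Subgroup (P × Q) :=
    { carrier := Set.range fun v => (ι v, ι' v)
      one_mem' := ⟨0, by simp [h.map_zero, h'.map_zero, Prod.ext_iff]⟩
      mul_mem' := by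
        rintro _ _ ⟨v, rfl⟩ ⟨w, rfl⟩
        exact ⟨v + w, by simp [h.map_add, h'.map_add]⟩
      inv_mem' := by
        rintro _ ⟨v, rfl⟩
        refine ⟨v, eq_inv_of_mul_eq_one_left ?_⟩
        simp [← h.map_add, ← h'.map_add, CharTwo.add_self_eq_zero, h.map_zero, h'.map_zero] }
  have hΔc : Nat.card Δ = Nat.card F := by
    refine (Nat.card_congr (Equiv.ofBijective (fun v => (⟨(ι v, ι' v), v, rfl⟩ : Δ)) ⟨fun a b hab => ?_, ?_⟩)).symm
    · exact h.inj (congrArg (fun z : Δ => z.1.1) hab)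
    · rintro ⟨_, v, rfl⟩; exact ⟨v, rfl⟩
  have hsq : ∀ a ∈ Fib, a * a ∈ Δ := fun a ha => ⟨π a.1 * φ (π a.1), by
    refine Prod.ext (h.sq a.1).symm ?_
    show ι' _ = a.2 * a.2
    rw [h'.sq, show π a.1 = π' a.2 from ha]⟩
  have hcm : ∀ a ∈ Fib, ∀ b ∈ Fib, cm a b ∈ Δ := fun a ha b hb => by
    refine ⟨(π b.1 + π a.1) * φ (π b.1 + π a.1) + π b.1 * φ (π b.1) + π a.1 * φ (π a.1),
      Prod.ext (h.cm_eq b.1 a.1).symm ?_⟩
    show ι' _ = cm a.2 b.2
    rw [h'.cm_eq b.2 a.2, show π a.1 = π' a.2 from ha, show π b.1 = π' b.2 from hb]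
  letI : Algebra (ZMod 2) F := ZMod.algebra _ 2
  haveI : Module.Finite (ZMod 2) F := Module.Finite.of_finite
  let bas := Module.finBasis (ZMod 2) F
  choose g hg using fun i => h.surj (bas i)
  choose g' hg' using fun i => h'.surj (bas i)
  have hind : ∀ s : Finset (Fin (Module.finrank (ZMod 2) F)), ∃ E : Subgroup (P × Q), Δ ≤ E ∧ E ≤ Fib ∧
      (∀ i ∈ s, (g i, g' i) ∈ E) ∧ Nat.card E ≤ 2 ^ s.card * Nat.card F := by
    intro s
    induction s using Finset.induction_on with
    | empty =>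
      refine ⟨Δ, le_rfl, ?_, by simp, by simp [hΔc]⟩
      rintro _ ⟨v, rfl⟩
      show π (ι v) = π' (ι' v)
      rw [(h.ker _).2 ⟨v, rfl⟩, (h'.ker _).2 ⟨v, rfl⟩]
    | insert i s his ih =>
      obtain ⟨E, hΔE, hEF, hgen, hcard⟩ := ih
      set b : P × Q := (g i, g' i) with hb
      have hbF : b ∈ Fib := show π (g i) = π' (g' i) by rw [hg, hg']
      have hbb : b * b ∈ E := hΔE (hsq b hbF)
      have key : ∀ x ∈ Fib, ∀ y ∈ Fib, x * y ∈ E ↔ y * x ∈ E := by
        intro x hx y hy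
        rw [show x * y = cm x y * (y * x) by simp only [cm]; group]
        exact Subgroup.mul_mem_cancel_left _ (hΔE (hcm x hx y hy))
      let E' : Subgroup (P × Q) :=
        { carrier := {x | x ∈ Fib ∧ (x ∈ E ∨ x * b ∈ E)}
          one_mem' := ⟨Fib.one_mem, Or.inl E.one_mem⟩
          mul_mem' := by
            rintro x y ⟨hxF, hx⟩ ⟨hyF, hy⟩
            refine ⟨Fib.mul_mem hxF hyF, ?_⟩
            rcases hx with hx | hx <;> rcases hy with hy | hy
            · exact Or.inl (E.mul_mem hx hy)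
            · exact Or.inr (by rw [mul_assoc]; exact E.mul_mem hx hy)
            · refine Or.inr ?_
              rw [mul_assoc, show y * b = cm y b * (b * y) by simp only [cm]; group]
              have hc := hcm y hyF b hbF
              obtain ⟨v, hv⟩ := hc
              have hcomm : ∀ z : P × Q, z * cm y b = cm y b * z := fun z => by
                rw [← hv]; exact Prod.ext (h.central v z.1).symm (h'.central v z.2).symm
              rw [← mul_assoc, hcomm x, mul_assoc, ← mul_assoc x b y]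
              exact E.mul_mem (hΔE ⟨v, hv⟩) (E.mul_mem hx hy)
            · refine Or.inl ?_
              have h1 : x * b * (b * y) ∈ E := E.mul_mem hx ((key y hyF b hbF).1 hy)
              rw [show x * b * (b * y) = x * (b * b) * y by group] at h1
              obtain ⟨v, hv⟩ := hsq b hbF
              have h2 : x * (b * b) = b * b * x := by
                rw [← hv]; exact Prod.ext (h.central v x.1).symm (h'.central v x.2).symm
              rw [h2, mul_assoc] at h1
              exact (Subgroup.mul_mem_cancel_left _ hbb).1 h1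
          inv_mem' := by
            rintro x ⟨hxF, hx⟩
            refine ⟨Fib.inv_mem hxF, ?_⟩
            rcases hx with hx | hx
            · exact Or.inl (E.inv_mem hx)
            · refine Or.inr ?_
              have h1 := E.inv_mem hx
              rw [mul_inv_rev] at h1
              have h2 : b * b * (b⁻¹ * x⁻¹) ∈ E := E.mul_mem hbb h1
              rw [show b * b * (b⁻¹ * x⁻¹) = b * x⁻¹ by group] at h2
              exact (key b hbF x⁻¹ (Fib.inv_mem hxF)).1 h2 }
      refine ⟨E', fun x hx => ⟨hEF (hΔE hx), Or.inl (hΔE hx)⟩, fun x hx => hx.1, ?_, ?_⟩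
      · intro j hj
        rcases Finset.mem_insert.1 hj with rfl | hj
        · exact ⟨hbF, Or.inr hbb⟩
        · exact ⟨hEF (hgen j hj), Or.inl (hgen j hj)⟩
      · have h1 : (E' : Set (P × Q)) ⊆ (E : Set (P × Q)) ∪ (fun x => x * b⁻¹) '' (E : Set (P × Q)) := by
          rintro x ⟨-, hx | hx⟩
          · exact Or.inl hx
          · exact Or.inr ⟨_, hx, mul_inv_cancel_right x b⟩
        have h2 := (Set.ncard_le_ncard h1).trans (Set.ncard_union_le _ _)
        have h3 := Set.ncard_image_le (f := fun x => x * b⁻¹) (Set.toFinite (E : Set (P × Q)))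
        simp only [← Nat.card_coe_set_eq, SetLike.coe_sort_coe] at h2 h3
        rw [Finset.card_insert_of_notMem his, pow_succ]
        linarith
  obtain ⟨E, hΔE, hEF, hgen, hcard⟩ := hind Finset.univ
  have hcard' : Nat.card E ≤ Nat.card F * Nat.card F := by
    refine hcard.trans_eq ?_
    rw [Finset.card_univ, Fintype.card_fin, Module.natCard_eq_pow_finrank (K := ZMod 2) (V := F), Nat.card_zmod]
  let img : AddSubgroup F :=
    { carrier := {v | ∃ a ∈ E, π a.1 = v}
      zero_mem' := ⟨1, E.one_mem, h.map_one⟩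
      add_mem' := by
        rintro _ _ ⟨a, ha, rfl⟩ ⟨b, hb, rfl⟩
        exact ⟨a * b, E.mul_mem ha hb, h.map_mul _ _⟩
      neg_mem' := by
        rintro _ ⟨a, ha, rfl⟩
        exact ⟨a, ha, (CharTwo.neg_eq _).symm⟩ }
  have himg : ∀ v, ∃ a ∈ E, π a.1 = v := by
    intro v
    have h1 : v ∈ AddSubgroup.toZModSubmodule 2 img := by
      have h2 : Submodule.span (ZMod 2) (Set.range bas) ≤ AddSubgroup.toZModSubmodule 2 img := by
        rw [Submodule.span_le]
        rintro _ ⟨i, rfl⟩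
        exact ⟨(g i, g' i), hgen i (Finset.mem_univ i), hg i⟩
      exact h2 (by rw [bas.span_eq]; exact Submodule.mem_top)
    exact h1
  have himg' : ∀ v, ∃ a ∈ E, π' a.2 = v := fun v => by
    obtain ⟨a, ha, hav⟩ := himg v
    exact ⟨a, ha, (hEF ha).symm.trans hav⟩
  let f₁ : E →* P := (MonoidHom.fst P Q).comp E.subtype
  let f₂ : E →* Q := (MonoidHom.snd P Q).comp E.subtype
  have hs₁ : Function.Surjective f₁ := fun x => by
    obtain ⟨a, ha, hax⟩ := himg (π x)
    obtain ⟨v, hv⟩ := (h.ker (a.1⁻¹ * x)).1 (by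
      have h2 := h.map_mul a.1 (a.1⁻¹ * x)
      rw [mul_inv_cancel_left, hax] at h2
      linear_combination -h2)
    exact ⟨⟨a * (ι v, ι' v), E.mul_mem ha (hΔE ⟨v, rfl⟩)⟩, by simp [f₁, hv]⟩
  have hs₂ : Function.Surjective f₂ := fun x => by
    obtain ⟨a, ha, hax⟩ := himg' (π' x)
    obtain ⟨v, hv⟩ := (h'.ker (a.2⁻¹ * x)).1 (by
      have h2 := h'.map_mul a.2 (a.2⁻¹ * x)
      rw [mul_inv_cancel_left, hax] at h2
      linear_combination -h2)
    exact ⟨⟨a * (ι v, ι' v), E.mul_mem ha (hΔE ⟨v, rfl⟩)⟩, by simp [f₂, hv]⟩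
  have hb₁ : Function.Bijective f₁ := Function.Surjective.bijective_of_nat_card_le hs₁ (by rw [h.card]; exact hcard')
  have hb₂ : Function.Bijective f₂ := Function.Surjective.bijective_of_nat_card_le hs₂ (by rw [h'.card]; exact hcard')
  refine ⟨(MulEquiv.ofBijective f₁ hb₁).symm.trans (MulEquiv.ofBijective f₂ hb₂), fun x => ?_, fun v => ?_⟩
  · obtain ⟨w, rfl⟩ := hb₁.2 x
    rw [MulEquiv.trans_apply, show f₁ w = MulEquiv.ofBijective f₁ hb₁ w from rfl, MulEquiv.symm_apply_apply]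
    exact (hEF w.2).symm
  · have hv : ι v = f₁ ⟨(ι v, ι' v), hΔE ⟨v, rfl⟩⟩ := rfl
    rw [MulEquiv.trans_apply, hv,
      show f₁ ⟨(ι v, ι' v), hΔE ⟨v, rfl⟩⟩ = MulEquiv.ofBijective f₁ hb₁ ⟨(ι v, ι' v), hΔE ⟨v, rfl⟩⟩ from rfl,
      MulEquiv.symm_apply_apply]
    rfl

set_option maxHeartbeats 1000000 in
/-- Diagonal coordinates. -/
theorem exists_coordinates {P : Type*} [Group P] [hfin : Finite P] (hp : IsPGroup 2 P)
    (hna : ∃ x y : P, x * y ≠ y * x) {t₁ t₂ : P} (ht12 : t₁ ≠ t₂) (ht1 : t₁ ≠ 1) (ht1' : t₁ * t₁ = 1)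
    (ht2 : t₂ ≠ 1) (ht2' : t₂ * t₂ = 1) (K : Subgroup (MulAut P)) (hK : IsCyclic K)
    (hreg : ∀ x y : P, x ≠ 1 → x * x = 1 → y ≠ 1 → y * y = 1 → ∃! k : K, (k : MulAut P) x = y)
    (hcard : Nat.card P = Nat.card (Subgroup.center P) ^ 2) :
    ∃ (F : Type) (_ : Field F) (_ : Fintype F) (φ : F ≃+* F) (e : F × F ≃ P) (w : Fˣ → K),
      Fintype.card F = Nat.card (Subgroup.center P) ∧ CharP F 2 ∧ Function.Bijective w ∧
      (∀ a : F, a * φ a = 1 → a = 1) ∧
      (∀ x y x' y' : F, e (x, y) * e (x', y') = e (x + x', y + y' + φ x * x')) ∧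
      ∀ (c : Fˣ) (x y : F), (w c : MulAut P) (e (x, y)) = e ((c : F) * x, (c : F) * φ (c : F) * y) := by
  classical
  haveI := hfin
  haveI : Fact (Nat.Prime 2) := ⟨Nat.prime_two⟩
  haveI : Nontrivial P := ⟨⟨t₁, 1, ht1⟩⟩
  obtain ⟨z₀, hz₀, hz₀1, hz₀2⟩ : ∃ z ∈ Subgroup.center P, z ≠ 1 ∧ z * z = 1 := by
    have hc := hp.center_nontrivial
    obtain ⟨m, hm⟩ := IsPGroup.iff_card.1 (hp.to_subgroup (Subgroup.center P))
    have h2 : 2 ∣ Nat.card (Subgroup.center P) := by
      have := Finite.one_lt_card_iff_nontrivial.2 hc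
      rcases m with _ | m
      · omega
      · exact hm ▸ dvd_pow_self 2 m.succ_ne_zero
    obtain ⟨⟨z, hz⟩, hord⟩ := exists_prime_orderOf_dvd_card' 2 h2
    rw [Subgroup.orderOf_mk] at hord
    refine ⟨z, hz, ?_, ?_⟩
    · rintro rfl
      rw [orderOf_one] at hord
      omega
    · rw [← pow_two, ← hord, pow_orderOf_eq_one]
  have hcinv : ∀ (k : MulAut P), ∀ z ∈ Subgroup.center P, k z ∈ Subgroup.center P := by
    intro k z hz
    rw [Subgroup.mem_center_iff] at hz ⊢
    intro g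
    obtain ⟨g', rfl⟩ := k.surjective g
    rw [← map_mul, hz, map_mul]
  have hcentral : ∀ t : P, t * t = 1 → t ∈ Subgroup.center P := by
    intro t ht
    by_cases h1 : t = 1
    · rw [h1]; exact one_mem _
    obtain ⟨k, hk, -⟩ := hreg z₀ t hz₀1 hz₀2 h1 ht
    rw [← hk]; exact hcinv _ _ hz₀
  have hKc : ∀ a b : K, a * b = b * a := fun a b => by
    haveI := hK
    letI := IsCyclic.commGroup (α := K)
    exact mul_comm a b
  let Ω : Subgroup P :=
    { carrier := {t | t * t = 1}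
      one_mem' := one_mul 1
      mul_mem' := fun {a b} ha hb => by
        show a * b * (a * b) = 1
        rw [← mul_assoc, mul_assoc a b a, Subgroup.mem_center_iff.1 (hcentral a ha) b, ← mul_assoc,
          show a * a = 1 from ha, one_mul]
        exact hb
      inv_mem' := fun {a} ha => by
        show a⁻¹ * a⁻¹ = 1
        rw [← mul_inv_rev, show a * a = 1 from ha, inv_one] }
  let act : K →* MulAut Ω :=
    { toFun := fun k =>
        { toFun := fun t => ⟨(k : MulAut P) t, by show _ * _ = 1; rw [← map_mul, t.2, map_one]⟩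
          invFun := fun t => ⟨(k : MulAut P).symm t, by show _ * _ = 1; rw [← map_mul, t.2, map_one]⟩
          left_inv := fun t => Subtype.ext ((k : MulAut P).symm_apply_apply _)
          right_inv := fun t => Subtype.ext ((k : MulAut P).apply_symm_apply _)
          map_mul' := fun a b => Subtype.ext (map_mul _ _ _) }
      map_one' := rfl
      map_mul' := fun a b => rfl }
  obtain ⟨n, hn⟩ := IsPGroup.iff_card.1 (hp.to_subgroup Ω)
  have hn2 : 2 ≤ n := by
    by_contra hlt
    have h1 : Nat.card Ω ≤ 2 := by rw [hn]; exact (Nat.pow_le_pow_right (by norm_num) (show n ≤ 1 by omega)).trans le_rfl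
    have h2 : ({1, t₁, t₂} : Set P).ncard = 3 :=
      Set.ncard_eq_three.2 ⟨1, t₁, t₂, ht1.symm, fun h => ht2 h.symm, ht12, rfl⟩
    have h3 : ({1, t₁, t₂} : Set P).ncard ≤ (Ω : Set P).ncard := by
      refine Set.ncard_le_ncard ?_
      rintro x (rfl | rfl | rfl)
      · exact Ω.one_mem
      · exact ht1'
      · exact ht2'
    rw [← Nat.card_coe_set_eq (Ω : Set P), SetLike.coe_sort_coe] at h3
    omega
  obtain ⟨φ₀, u, hφb, hub, hφadd, hφeq⟩ := exists_coord act hKc (fun t => Subtype.ext t.2) n (by omega) hn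
    (fun x y hx hy => by
      obtain ⟨k, hk, huniq⟩ := hreg x y (fun h => hx (Subtype.ext h)) x.2 (fun h => hy (Subtype.ext h)) y.2
      exact ⟨k, Subtype.ext hk, fun k' hk' => huniq k' (congrArg Subtype.val hk')⟩)
  haveI : NeZero n := ⟨by omega⟩
  let ω : P → GaloisField 2 n := fun t => if h : t * t = 1 then φ₀ ⟨t, h⟩ else 0
  have hω : ∀ {t : P} (h : t * t = 1), ω t = φ₀ ⟨t, h⟩ := fun {t} h => dif_pos h
  have S : Setting P K n (GaloisField 2 n) ω u := by
    refine ⟨hfin, hp, hcentral, hKc, hreg, hn, hn2, ?_, ?_, ?_, ?_, hub⟩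
    · intro x y hx hy
      rw [hω hx, hω hy, hω (Ω.mul_mem (x := x) (y := y) hx hy), ← hφadd]
      rfl
    · intro k x hx
      rw [hω hx, hω (show (k : MulAut P) x * (k : MulAut P) x = 1 by rw [← map_mul, hx, map_one]), ← hφeq]
      rfl
    · intro x y hx hy hxy
      rw [hω hx, hω hy] at hxy
      exact congrArg Subtype.val (hφb.1 hxy)
    · intro v
      obtain ⟨t, ht⟩ := hφb.2 v
      exact ⟨t, t.2, by rw [hω t.2]; exact ht⟩
  have hZ := center_sq S hna hcard
  have hΩZ : Subgroup.center P = Ω := le_antisymm hZ hcentral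
  have hZcard : Nat.card (Subgroup.center P) = 2 ^ n := by rw [hΩZ, hn]
  haveI : Finite (GaloisField 2 n) := Finite.of_surjective φ₀ hφb.2
  letI : Fintype (GaloisField 2 n) := Fintype.ofFinite _
  have hFcard : Nat.card (GaloisField 2 n) = 2 ^ n := GaloisField.card 2 n (by omega)
  -- the squares
  have hQeq : ∀ (k : K) (x : P), x * x ∈ Ω → ω ((k : MulAut P) x * (k : MulAut P) x) = (u k : GaloisField 2 n) * ω (x * x) :=
    fun k x hx => by rw [← map_mul]; exact S.equiv k _ hx
  haveI hcn : (Subgroup.center P).Normal := inferInstance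
  let U : Subgroup P :=
    { carrier := {y | y * y ∈ Ω ∧ ∀ g, cm y g ∈ Subgroup.center P}
      one_mem' := ⟨by simp [Ω.one_mem], fun g => by simp [cm]⟩
      mul_mem' := by
        intro x y hx hy
        refine ⟨?_, fun g => ?_⟩
        · rw [show x * y * (x * y) = x * cm y x * x⁻¹ * (x * x) * (y * y) by simp only [cm]; group]
          exact Ω.mul_mem (Ω.mul_mem (hΩZ ▸ hcn.conj_mem _ (hy.2 x) x) hx.1) hy.1
        · rw [cm_mul_left (hy.2 g)]
          exact Subgroup.mul_mem _ (hx.2 g) (hy.2 g)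
      inv_mem' := by
        intro x hx
        refine ⟨?_, fun g => ?_⟩
        · rw [show x⁻¹ * x⁻¹ = (x * x)⁻¹ by group]; exact Ω.inv_mem hx.1
        · rw [show cm x⁻¹ g = x⁻¹ * (cm x g)⁻¹ * x by simp only [cm]; group]
          exact hcn.conj_mem' _ (Subgroup.inv_mem _ (hx.2 g)) x }
  have hUinv : ∀ (k : K), ∀ y ∈ U, (k : MulAut P) y ∈ U := by
    intro k y hy
    refine ⟨by show _ * _ * (_ * _) = 1; rw [← map_mul, ← map_mul, show y * y * (y * y) = 1 from hy.1, map_one], fun g => ?_⟩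
    obtain ⟨g', rfl⟩ := (k : MulAut P).surjective g
    rw [← map_cm]; exact hcinv _ _ (hy.2 g')
  have hΩsq : ∀ x : P, x ∉ Ω → x * x ≠ 1 := fun x hx h => hx h
  obtain ⟨y₀, hy₀U, hy₀Ω⟩ : ∃ y ∈ U, y ∉ Ω := by
    haveI hnt : Nontrivial (P ⧸ Subgroup.center P) := by
      rw [← Finite.one_lt_card_iff_nontrivial, ← Subgroup.index_eq_card]
      refine Nat.lt_of_le_of_ne (Nat.one_le_iff_ne_zero.2 Subgroup.index_ne_zero_of_finite) fun h => ?_
      obtain ⟨x, y, hxy⟩ := hna
      exact hxy (Subgroup.mem_center_iff.1 (Subgroup.index_eq_one.1 h.symm ▸ Subgroup.mem_top y) x)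
    have hQ := hp.to_quotient (Subgroup.center P)
    have hnc := hQ.center_nontrivial
    obtain ⟨m, hm⟩ := IsPGroup.iff_card.1 (hQ.to_subgroup (Subgroup.center (P ⧸ Subgroup.center P)))
    have h2 : 2 ∣ Nat.card (Subgroup.center (P ⧸ Subgroup.center P)) := by
      have := Finite.one_lt_card_iff_nontrivial.2 hnc
      rcases m with _ | m
      · omega
      · exact hm ▸ dvd_pow_self 2 m.succ_ne_zero
    obtain ⟨⟨c, hc⟩, hord⟩ := exists_prime_orderOf_dvd_card' 2 h2
    obtain ⟨y, rfl⟩ := QuotientGroup.mk_surjective c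
    rw [Subgroup.orderOf_mk] at hord
    refine ⟨y, ⟨?_, fun g => ?_⟩, fun hy => ?_⟩
    · rw [← hΩZ, ← QuotientGroup.eq_one_iff, QuotientGroup.mk_mul, ← pow_two, ← hord, pow_orderOf_eq_one]
    · rw [← QuotientGroup.eq_one_iff]
      simp only [cm, QuotientGroup.mk_mul, QuotientGroup.mk_inv]
      rw [← Subgroup.mem_center_iff.1 hc (g : P ⧸ Subgroup.center P)]
      group
    · rw [(QuotientGroup.eq_one_iff y).2 (hΩZ ▸ hy), orderOf_one] at hord
      omega
  have hc0 : ω (y₀ * y₀) ≠ 0 := fun h => hy₀Ω ((S.omega_eq_zero hy₀U.1).1 h)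
  -- square roots
  have hroot : ∀ v, ∃ y ∈ U, ω (y * y) = v := by
    intro v
    by_cases hv : v = 0
    · exact ⟨1, U.one_mem, by rw [one_mul, S.omega_one, hv]⟩
    obtain ⟨k, hk⟩ := hub.2 (Units.mk0 (v / ω (y₀ * y₀)) (div_ne_zero hv hc0))
    exact ⟨(k : MulAut P) y₀, hUinv k _ hy₀U, by rw [hQeq k y₀ hy₀U.1, hk, Units.val_mk0, div_mul_cancel₀ _ hc0]⟩
  choose r hrU hr using hroot
  have hrsq : ∀ (v : GaloisField 2 n) (z : Ω), r v * z * (r v * z) = r v * r v := fun v z => by
    rw [mul_assoc, ← mul_assoc (z : P) (r v) z, ← Subgroup.mem_center_iff.1 (hcentral z z.2) (r v), mul_assoc,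
      show (z : P) * z = 1 from z.2, mul_one]
  have hbij : Function.Bijective fun vz : GaloisField 2 n × Ω => r vz.1 * (vz.2 : P) := by
    refine Function.Injective.bijective_of_nat_card_le ?_ ?_
    · rintro ⟨v, z⟩ ⟨v', z'⟩ h
      simp only at h
      have h1 := congrArg (fun x => ω (x * x)) h
      simp only [hrsq, hr] at h1
      subst h1
      exact Prod.ext rfl (Subtype.ext (mul_left_cancel h))
    · rw [Nat.card_prod, hFcard, hn, hcard, hZcard, pow_two]
  have hall : ∀ x : P, x * x ∈ Ω ∧ ∀ g, cm x g ∈ Subgroup.center P := by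
    intro x
    obtain ⟨⟨v, z⟩, rfl⟩ := hbij.2 x
    exact U.mul_mem (hrU v) ⟨by rw [show (z : P) * z = 1 from z.2]; exact Ω.one_mem, fun g => by
      rw [cm_eq_one_iff.2 (Subgroup.mem_center_iff.1 (hcentral z z.2) g).symm]; exact one_mem _⟩
  -- equal squares: same coset
  have hcoset : ∀ x y : P, x * x = y * y → (x : P ⧸ Subgroup.center P) = y := by
    intro x y h
    obtain ⟨⟨v, z⟩, rfl⟩ := hbij.2 x
    obtain ⟨⟨w, z'⟩, rfl⟩ := hbij.2 y
    simp only [hrsq] at h
    have h1 := congrArg ω h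
    rw [hr, hr] at h1
    subst h1
    rw [QuotientGroup.eq, show (r v * (z : P))⁻¹ * (r v * z') = (z : P)⁻¹ * z' by group]
    exact Subgroup.mul_mem _ (Subgroup.inv_mem _ (hcentral z z.2)) (hcentral z' z'.2)
  let actQ : K →* MulAut (P ⧸ Subgroup.center P) :=
    { toFun := fun k => QuotientGroup.congr (Subgroup.center P) (Subgroup.center P) (k : MulAut P) (by
        refine le_antisymm ?_ fun z hz => ?_
        · rintro _ ⟨z, hz, rfl⟩; exact hcinv _ _ hz
        · exact ⟨(k : MulAut P).symm z, hcinv (k : MulAut P).symm _ hz, (k : MulAut P).apply_symm_apply z⟩)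
      map_one' := MulEquiv.ext fun c => by
        obtain ⟨x, rfl⟩ := QuotientGroup.mk_surjective c; rfl
      map_mul' := fun a b => MulEquiv.ext fun c => by
        obtain ⟨x, rfl⟩ := QuotientGroup.mk_surjective c; rfl }
  have hsqne : ∀ x : P, (x : P ⧸ Subgroup.center P) ≠ 1 → x * x ≠ 1 := fun x hx h =>
    hx ((QuotientGroup.eq_one_iff x).2 (hcentral x h))
  have hsqcoset : ∀ x y : P, (x : P ⧸ Subgroup.center P) = y → x * x = y * y := by
    intro x y h
    have hz : x⁻¹ * y ∈ Subgroup.center P := QuotientGroup.eq.1 h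
    rw [show y = x * (x⁻¹ * y) by group, mul_assoc x (x⁻¹ * y), ← mul_assoc (x⁻¹ * y) x,
      ← Subgroup.mem_center_iff.1 hz x, mul_assoc x (x⁻¹ * y) (x⁻¹ * y), hZ _ hz, mul_one]
  obtain ⟨π₀, w, hπb, hwb, hπadd, hπeq⟩ := exists_coord actQ hKc
    (fun c => by
      obtain ⟨x, rfl⟩ := QuotientGroup.mk_surjective c
      rw [← QuotientGroup.mk_mul, QuotientGroup.eq_one_iff, hΩZ]
      exact (hall x).1)
    n (by omega)
    (by
      have h1 := Subgroup.card_mul_index (Subgroup.center P)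
      rw [hcard, pow_two] at h1
      rw [← Subgroup.index_eq_card, ← hZcard]
      exact Nat.eq_of_mul_eq_mul_left Nat.card_pos h1)
    (fun cx cy hcx hcy => by
      obtain ⟨x, rfl⟩ := QuotientGroup.mk_surjective cx
      obtain ⟨y, rfl⟩ := QuotientGroup.mk_surjective cy
      obtain ⟨k, hk, huniq⟩ := hreg (x * x) (y * y) (hsqne x hcx) (hall x).1 (hsqne y hcy) (hall y).1
      refine ⟨k, hcoset _ _ (by rw [← map_mul]; exact hk), fun k' hk' => huniq k' ?_⟩
      show (k' : MulAut P) (x * x) = y * y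
      rw [map_mul]; exact hsqcoset _ _ hk')
  let π₁ : P → GaloisField 2 n := fun x => π₀ (x : P ⧸ Subgroup.center P)
  have hπ₁add : ∀ x y, π₁ (x * y) = π₁ x + π₁ y := fun x y => by
    show π₀ _ = π₀ _ + π₀ _
    rw [QuotientGroup.mk_mul]; exact hπadd _ _
  have hπ₁eq : ∀ (k : K) (x : P), π₁ ((k : MulAut P) x) = (w k : GaloisField 2 n) * π₁ x := fun k x => by
    show π₀ _ = _ * π₀ _
    rw [← hπeq]; rfl
  have hπ₁surj : ∀ v, ∃ x, π₁ x = v := fun v => by
    obtain ⟨c, hc⟩ := hπb.2 v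
    obtain ⟨x, rfl⟩ := QuotientGroup.mk_surjective c
    exact ⟨x, hc⟩
  have hπ₁z : ∀ x, π₁ x = 0 ↔ x ∈ Subgroup.center P := fun x => by
    have h0 : π₀ 1 = 0 := by
      have := hπadd 1 1; rw [one_mul] at this; linear_combination -this
    rw [← QuotientGroup.eq_one_iff]
    exact ⟨fun h => hπb.1 (h.trans h0.symm), fun h => by show π₀ _ = 0; rw [h, h0]⟩
  choose r₁ hr₁ using hπ₁surj
  have hcmΩ : ∀ x y : P, cm x y * cm x y = 1 := fun x y => hZ _ ((hall x).2 y)
  let χ : GaloisField 2 n → GaloisField 2 n := fun a =>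
    if h : a = 0 then 0 else (u (hwb.2 (Units.mk0 a h)).choose : GaloisField 2 n)
  have hχ : ∀ k, χ (w k : GaloisField 2 n) = (u k : GaloisField 2 n) := by
    intro k
    simp only [χ, dif_neg (w k).ne_zero]
    congr 2
    apply hwb.1
    rw [(hwb.2 (Units.mk0 _ (w k).ne_zero)).choose_spec, Units.mk0_val]
  let β : GaloisField 2 n → GaloisField 2 n → GaloisField 2 n := fun v v' => ω (cm (r₁ v) (r₁ v'))
  have heval : ∀ x y, ω (cm x y) = β (π₁ x) (π₁ y) := by
    intro x y
    obtain ⟨a, ha, hxa⟩ : ∃ a ∈ Subgroup.center P, x = r₁ (π₁ x) * a :=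
      ⟨(r₁ (π₁ x))⁻¹ * x, QuotientGroup.eq.1 (hπb.1 (hr₁ (π₁ x))), by group⟩
    obtain ⟨b, hb, hyb⟩ : ∃ b ∈ Subgroup.center P, y = r₁ (π₁ y) * b :=
      ⟨(r₁ (π₁ y))⁻¹ * y, QuotientGroup.eq.1 (hπb.1 (hr₁ (π₁ y))), by group⟩
    have ha1 : ∀ g, cm a g = 1 := fun g => cm_eq_one_iff.2 (Subgroup.mem_center_iff.1 ha g).symm
    have hb1 : ∀ g, cm g b = 1 := fun g => cm_eq_one_iff.2 (Subgroup.mem_center_iff.1 hb g)
    conv_lhs => rw [hxa, hyb]
    rw [cm_mul_left (by rw [ha1]; exact one_mem _), ha1, mul_one, cm_mul_right (by rw [hb1]; exact one_mem _), hb1,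
      mul_one]
  have hl : ∀ v v' v'', β (v + v') v'' = β v v'' + β v' v'' := by
    intro v v' v''
    have h := heval (r₁ v * r₁ v') (r₁ v'')
    rw [hπ₁add, hr₁, hr₁, hr₁, cm_mul_left ((hall _).2 _), S.add _ _ (hcmΩ _ _) (hcmΩ _ _)] at h
    exact h.symm
  have hrr : ∀ v v' v'', β v (v' + v'') = β v v' + β v v'' := by
    intro v v' v''
    have h := heval (r₁ v) (r₁ v' * r₁ v'')
    rw [hπ₁add, hr₁, hr₁, hr₁, cm_mul_right ((hall _).2 _), S.add _ _ (hcmΩ _ _) (hcmΩ _ _)] at h
    exact h.symm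
  have hdd : ∀ v, β v v = 0 := fun v => by
    show ω _ = 0
    rw [cm_eq_one_iff.2 rfl, S.omega_one]
  have hχeq : ∀ a v v', β (a * v) (a * v') = χ a * β v v' := by
    intro a v v'
    by_cases ha : a = 0
    · simp only [ha, zero_mul]; rw [hdd]; simp [χ]
    obtain ⟨k, hk⟩ := hwb.2 (Units.mk0 a ha)
    have hka : (w k : GaloisField 2 n) = a := by rw [hk]; rfl
    have h := heval ((k : MulAut P) (r₁ v)) ((k : MulAut P) (r₁ v'))
    rw [hπ₁eq, hπ₁eq, hr₁, hr₁, ← map_cm, S.equiv k _ (hcmΩ _ _), ← hχ k, hka] at h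
    exact h.symm
  obtain ⟨σ, τ, hστ, hmul⟩ := exists_factor β hl hrr hdd χ hχeq (by
    obtain ⟨x, y, hxy⟩ := hna
    refine ⟨π₁ x, π₁ y, fun h => hxy (cm_eq_one_iff.1 ((S.omega_eq_zero (hcmΩ x y)).1 ?_))⟩
    rw [heval, h])
  let φ : GaloisField 2 n ≃+* GaloisField 2 n := σ.symm.trans τ
  let π : P → GaloisField 2 n := fun x => σ (π₁ x)
  let x₀ : P := r₁ (σ.symm 1)
  let c₀ : GaloisField 2 n := ω (x₀ * x₀)
  have hc₀ : c₀ ≠ 0 := by
    intro h
    have h1 : x₀ ∈ Subgroup.center P := hcentral _ ((S.omega_eq_zero (hall _).1).1 h)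
    rw [← hπ₁z, hr₁] at h1
    simp at h1
  have hQ : ∀ x, ω (x * x) = c₀ * (π x * φ (π x)) := by
    intro x
    by_cases hx : π₁ x = 0
    · rw [show π x = 0 by show σ _ = 0; rw [hx, map_zero], zero_mul, mul_zero, hZ x ((hπ₁z x).1 hx), S.omega_one]
    obtain ⟨k, hk⟩ := hwb.2 (Units.mk0 (π₁ x / σ.symm 1) (div_ne_zero hx (by simp)))
    have hkx : π₁ ((k : MulAut P) x₀) = π₁ x := by
      rw [hπ₁eq, hr₁, hk, Units.val_mk0, div_mul_cancel₀ _ (by simp)]
    have h1 : x * x = (k : MulAut P) (x₀ * x₀) := by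
      rw [map_mul]; exact (hsqcoset _ _ (hπb.1 hkx)).symm
    have hwk : π₁ x = (w k : GaloisField 2 n) * σ.symm 1 := by rw [← hkx, hπ₁eq, hr₁]
    rw [h1, S.equiv k _ (hall _).1, ← hχ, hmul]
    have h2 : σ (π₁ x) = σ (w k : GaloisField 2 n) := by rw [hwk, map_mul, σ.apply_symm_apply, mul_one]
    show _ = _ * (σ (π₁ x) * τ (σ.symm (σ (π₁ x))))
    rw [h2, σ.symm_apply_apply]
    ring
  choose t ht2 ht using fun v => S.surj (c₀ * v)
  have hmodel : IsModel φ π t := by
    refine ⟨fun x y => by show σ _ = _; rw [hπ₁add, map_add], fun v => ⟨r₁ (σ.symm v), by show σ _ = v; rw [hr₁, σ.apply_symm_apply]⟩,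
      fun x => ?_, fun v v' => ?_, fun v v' h => ?_, fun v x => ?_, fun x => ?_⟩
    · constructor
      · intro h
        have hx : x ∈ Subgroup.center P := (hπ₁z x).1 (σ.injective (h.trans (map_zero σ).symm))
        refine ⟨ω x / c₀, S.inj _ _ (ht2 _) (hZ x hx) ?_⟩
        rw [ht, mul_div_cancel₀ _ hc₀]
      · rintro ⟨v, rfl⟩
        show σ _ = 0
        rw [(hπ₁z _).2 (hcentral _ (ht2 v)), map_zero]
    · refine S.inj _ _ (ht2 _) (Ω.mul_mem (x := t v) (y := t v') (ht2 v) (ht2 v')) ?_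
      rw [ht, S.add _ _ (ht2 v) (ht2 v'), ht, ht, mul_add]
    · exact mul_left_cancel₀ hc₀ ((ht v).symm.trans ((congrArg ω h).trans (ht v')))
    · exact (Subgroup.mem_center_iff.1 (hcentral _ (ht2 v)) x).symm
    · exact S.inj _ _ (hall x).1 (ht2 _) (by rw [hQ, ht])
  have huk : ∀ k : K, (u k : GaloisField 2 n) = σ (w k) * φ (σ (w k)) := fun k => by
    rw [← hχ, hmul]
    show _ = _ * τ (σ.symm (σ _))
    rw [σ.symm_apply_apply]
  have hπeqK : ∀ (k : K) (x : P), π ((k : MulAut P) x) = σ (w k) * π x := fun k x => by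
    show σ _ = _ * σ _
    rw [hπ₁eq, map_mul]
  have htk : ∀ (k : K) v, (k : MulAut P) (t v) = t ((u k : GaloisField 2 n) * v) := fun k v => by
    refine S.inj _ _ (by rw [← map_mul, ht2, map_one]) (ht2 _) ?_
    rw [S.equiv k _ (ht2 v), ht, ht]; ring
  -- the standard model
  let Q := Cfsg.suzukiTypeA (GaloisField 2 n) (φ : GaloisField 2 n →+* GaloisField 2 n)
  choose X Y₀ hXY using fun g : Q => (mem_suzukiTypeA φ g.1).1 g.2
  let ι' : GaloisField 2 n → Q := fun v => ⟨mk φ 0 v, (mem_suzukiTypeA φ _).2 ⟨0, v, rfl⟩⟩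
  have hmodel' : IsModel φ X ι' := by
    refine ⟨fun a b => ?_, fun v => ?_, fun a => ⟨fun ha => ?_, ?_⟩, fun v v' => ?_, fun v v' hvw => ?_,
      fun v a => ?_, fun a => ?_⟩
    · have h := hXY (a * b)
      rw [Subgroup.coe_mul, hXY a, hXY b, mk_mul] at h
      exact (mk_inj φ h).1.symm
    · exact ⟨⟨mk φ v 0, (mem_suzukiTypeA φ _).2 ⟨v, 0, rfl⟩⟩, (mk_inj φ (hXY ⟨mk φ v 0, _⟩)).1.symm⟩
    · exact ⟨Y₀ a, Subtype.ext (by rw [hXY a, ha])⟩
    · rintro ⟨v, rfl⟩
      exact (mk_inj φ (hXY ⟨mk φ 0 v, _⟩)).1.symm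
    · exact Subtype.ext (by simp [ι', mk_mul])
    · exact (mk_inj φ (congrArg Subtype.val hvw)).2
    · exact Subtype.ext (by
        rw [Subgroup.coe_mul, Subgroup.coe_mul, hXY a, mk_mul, mk_mul]
        congr 1 <;> simp [add_comm])
    · exact Subtype.ext (by
        show _ = mk φ 0 _
        rw [Subgroup.coe_mul, hXY a, mk_mul, CharTwo.add_self_eq_zero, CharTwo.add_self_eq_zero, zero_add,
          mul_comm (φ (X a))])
  obtain ⟨ee, heeπ, heeι⟩ := exists_mulEquiv hmodel hmodel'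
  let Y : P → GaloisField 2 n := fun x => Y₀ (ee x)
  have hY : ∀ x y, Y (x * y) = Y x + Y y + φ (π x) * π y := fun x y => by
    have h := hXY (ee (x * y))
    rw [map_mul, Subgroup.coe_mul, hXY (ee x), hXY (ee y), mk_mul, heeπ, heeπ] at h
    show Y₀ (ee (x * y)) = _
    rw [map_mul]
    exact (mk_inj φ h).2.symm
  have hYι : ∀ v, Y (t v) = v := fun v => by
    show Y₀ (ee (t v)) = v
    rw [heeι]
    exact (mk_inj φ (hXY (ι' v))).2.symm
  have hpi_ext : ∀ x y, π x = π y → Y x = Y y → x = y := fun x y h1 h2 => by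
    refine ee.injective (Subtype.ext ?_)
    rw [hXY (ee x), hXY (ee y), heeπ, heeπ, h1]
    exact congrArg (mk φ (π y)) h2
  let D : K → P → GaloisField 2 n := fun k x => Y ((k : MulAut P) x) + (u k : GaloisField 2 n) * Y x
  have hDadd : ∀ k x y, D k (x * y) = D k x + D k y := fun k x y => by
    show Y _ + _ * Y _ = Y _ + _ + (Y _ + _)
    rw [map_mul, hY, hY, hπeqK, hπeqK, map_mul φ, huk]
    linear_combination (σ (w k) * φ (σ (w k)) * (φ (π x) * π y)) * CharTwo.two_eq_zero (R := GaloisField 2 n)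
  have hDι : ∀ k v, D k (t v) = 0 := fun k v => by
    show Y _ + _ * Y _ = 0
    rw [htk, hYι, hYι, CharTwo.add_self_eq_zero]
  choose r₀ hr₀ using hmodel.surj
  let L : K → GaloisField 2 n → GaloisField 2 n := fun k a => D k (r₀ a)
  have hDL : ∀ k x, D k x = L k (π x) := fun k x => by
    obtain ⟨v, hv⟩ := (hmodel.ker ((r₀ (π x))⁻¹ * x)).1 (by
      have h2 := hmodel.map_mul (r₀ (π x)) ((r₀ (π x))⁻¹ * x)
      rw [mul_inv_cancel_left, hr₀] at h2
      linear_combination -h2)
    have h3 := hDadd k (r₀ (π x)) (t v)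
    rw [hv, mul_inv_cancel_left, ← hv, hDι, add_zero] at h3
    exact h3
  have hLadd : ∀ k a b, L k (a + b) = L k a + L k b := fun k a b => by
    show L k _ = D k _ + D k _
    rw [← hDadd, hDL, hmodel.map_mul, hr₀, hr₀]
  have hLmul : ∀ k l a, L (k * l) a = L k (σ (w l) * a) + (u k : GaloisField 2 n) * L l a := fun k l a => by
    have h1 : L k (σ (w l) * a) = D k ((l : MulAut P) (r₀ a)) := by rw [hDL, hπeqK, hr₀]
    rw [h1]
    show Y _ + _ * Y _ = Y _ + _ * Y _ + _ * (Y _ + _ * Y _)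
    rw [map_mul u, Units.val_mul, Subgroup.coe_mul, MulAut.mul_apply]
    linear_combination (-((u k : GaloisField 2 n) * Y ((l : MulAut P) (r₀ a)))) * CharTwo.two_eq_zero (R := GaloisField 2 n)
  haveI := Fintype.ofFinite K
  let M : GaloisField 2 n → GaloisField 2 n := fun a => ∑ k : K, L k a / (u k : GaloisField 2 n)
  have hMadd : ∀ a b, M (a + b) = M a + M b := fun a b => by
    show ∑ k : K, _ = (∑ k : K, _) + ∑ k : K, _
    rw [← Finset.sum_add_distrib]
    exact Finset.sum_congr rfl fun k _ => by rw [hLadd, add_div]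
  have hKone : ((Fintype.card K : ℕ) : GaloisField 2 n) = 1 := by
    have h1 : Fintype.card K + 1 = 2 ^ n := by
      rw [← Nat.card_eq_fintype_card, Nat.card_congr (Equiv.ofBijective u hub), ← hFcard, Nat.card_units]
      have : 0 < Nat.card (GaloisField 2 n) := Nat.card_pos
      omega
    have h2 : ((Fintype.card K + 1 : ℕ) : GaloisField 2 n) = 0 := by
      rw [h1, CharP.cast_eq_zero_iff (GaloisField 2 n) 2]
      exact dvd_pow_self 2 (by omega)
    push_cast at h2
    exact CharTwo.add_eq_zero.1 h2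
  have hM : ∀ l a, (u l : GaloisField 2 n) * M a = M (σ (w l) * a) + L l a := fun l a => by
    have h1 : M a = ∑ k : K, L (k * l) a / (u (k * l) : GaloisField 2 n) :=
      (Fintype.sum_equiv (Equiv.mulRight l) _ _ fun k => rfl).symm
    have h2 : ∀ k : K, (u l : GaloisField 2 n) * (L (k * l) a / (u (k * l) : GaloisField 2 n)) =
        L k (σ (w l) * a) / (u k : GaloisField 2 n) + L l a := fun k => by
      have := (u k).ne_zero
      have := (u l).ne_zero
      rw [hLmul, map_mul u, Units.val_mul]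
      field_simp
    rw [h1, Finset.mul_sum, Finset.sum_congr rfl fun k _ => h2 k, Finset.sum_add_distrib, Finset.sum_const,
      Finset.card_univ, nsmul_eq_mul, hKone, one_mul]
  let Z : P → GaloisField 2 n × GaloisField 2 n := fun x => (π x, Y x + M (π x))
  have hZb : Function.Bijective Z := by
    refine (Nat.bijective_iff_injective_and_card Z).2 ⟨fun x y h => ?_, ?_⟩
    · have h1 : π x = π y := congrArg Prod.fst h
      have h2 : Y x + M (π x) = Y y + M (π y) := congrArg Prod.snd h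
      rw [h1] at h2
      exact hpi_ext x y h1 (add_right_cancel h2)
    · rw [Nat.card_prod, hFcard, hcard, hZcard, pow_two]
  have hcw : Function.Bijective fun k : K => Units.map (σ : GaloisField 2 n →* GaloisField 2 n) (w k) := by
    refine Function.Bijective.comp (g := Units.map (σ : GaloisField 2 n →* GaloisField 2 n)) ?_ hwb
    exact (Units.mapEquiv σ.toMulEquiv).bijective
  let W := (Equiv.ofBijective _ hcw).symm
  refine ⟨GaloisField 2 n, inferInstance, inferInstance, φ, (Equiv.ofBijective Z hZb).symm, W, ?_, inferInstance,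
    W.bijective, fun a ha => ?_, fun x y x' y' => ?_, fun c x y => ?_⟩
  · rw [← Nat.card_eq_fintype_card, hFcard, hZcard]
  · obtain ⟨x, hx⟩ := hmodel.surj a
    obtain ⟨y, hy⟩ := hmodel.surj 1
    have h1 : x * x = y * y := by rw [hmodel.sq, hmodel.sq, hx, hy, ha, map_one, mul_one]
    have h2 := congrArg π₀ (hcoset x y h1)
    rw [← hx, ← hy]
    exact congrArg σ h2
  · rw [Equiv.eq_symm_apply, Equiv.ofBijective_apply]
    obtain ⟨p, hp⟩ := hZb.2 (x, y)
    obtain ⟨q, hq⟩ := hZb.2 (x', y')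
    rw [← hp, ← hq, Equiv.ofBijective_symm_apply_apply, Equiv.ofBijective_symm_apply_apply]
    have hp1 : π p = x := congrArg Prod.fst hp
    have hp2 : Y p + M (π p) = y := congrArg Prod.snd hp
    have hq1 : π q = x' := congrArg Prod.fst hq
    have hq2 : Y q + M (π q) = y' := congrArg Prod.snd hq
    refine Prod.ext ?_ ?_
    · show π (p * q) = x + x'
      rw [hmodel.map_mul, hp1, hq1]
    · show Y (p * q) + M (π (p * q)) = _
      rw [hY, hmodel.map_mul, hMadd, hp1, hq1, ← hp2, ← hq2, hp1, hq1]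
      ring
  · rw [Equiv.eq_symm_apply, Equiv.ofBijective_apply]
    obtain ⟨p, hp⟩ := hZb.2 (x, y)
    rw [← hp, Equiv.ofBijective_symm_apply_apply]
    have hp1 : π p = x := congrArg Prod.fst hp
    have hp2 : Y p + M (π p) = y := congrArg Prod.snd hp
    obtain ⟨k, hk⟩ := hcw.2 c
    have hWc : W c = k := by rw [← hk]; exact Equiv.ofBijective_symm_apply_apply _ hcw k
    have hσ : σ (w k : GaloisField 2 n) = (c : GaloisField 2 n) := congrArg Units.val hk
    rw [hWc]
    refine Prod.ext ?_ ?_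
    · show π _ = _
      rw [hπeqK, hσ, hp1]
    · show Y _ + M (π _) = _
      rw [hπeqK, ← hσ, ← huk, ← hp2, mul_add, hM, hp1, ← hp1]
      have h1 : Y ((k : MulAut P) p) = L k (π p) + (u k : GaloisField 2 n) * Y p := by
        rw [← hDL]
        show _ = Y _ + _ + _
        linear_combination (-((u k : GaloisField 2 n) * Y p)) * CharTwo.two_eq_zero (R := GaloisField 2 n)
      rw [h1]
      ring

end Cfsg.Agent.Grp.SuzIdent
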