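import Cfsg.Agent.Lib.Grp.SuzIdent.Setup

/-!
Every simple Zassenhaus group with a nonabelian kernel has normalised coordinates.
-/

set_option autoImplicit false
set_option linter.style.haveILetI false

namespace Cfsg.Agent.Grp.SuzIdent

open MulAction Cfsg.Agent.Block.Zas Cfsg.Agent.Grp

universe u v

variable {G : Type u} {Ω : Type v} [Group G] [MulAction G Ω] [Finite G]

/-- The order of a group with a Suzuki kernel is prime to three. -/
theorem not_three_card (D : Frame G Ω) {n : ℕ} (hn : Odd n) (hF : Nat.card D.F = (2 ^ n) ^ 2)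
    (hH : Nat.card D.H = 2 ^ n - 1) : ¬ 3 ∣ Nat.card G := by
  obtain ⟨k, rfl⟩ := hn
  rw [D.card_group, hF, hH]
  have h2 : 2 ^ (2 * k + 1) % 3 = 2 := by
    rw [pow_succ, pow_mul, Nat.mul_mod, Nat.pow_mod]; norm_num
  have h0 : 0 < 2 ^ (2 * k + 1) := by positivity
  generalize 2 ^ (2 * k + 1) = q at h2 h0 ⊢
  have h1 : (q - 1) % 3 = 1 := by omega
  intro h
  rw [Nat.dvd_iff_mod_eq_zero] at h
  simp [Nat.add_mod, Nat.mul_mod, Nat.pow_mod, h2, h1] at h

/-- Coordinates exist. -/
theorem exists_coords [IsSimpleGroup G] (D : Frame G Ω) (hn : 2 ≤ Nat.card D.F) (hH : D.H ≠ ⊥)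
    (h2 : IsPGroup 2 D.F) (hna : ∃ x y : D.F, x * y ≠ y * x) :
    ∃ (n : ℕ) (K : Type) (_ : Field K) (_ : Fintype K) (φ : K ≃+* K) (_ : Coords D K φ),
      Odd n ∧ 1 < n ∧ Fintype.card K = 2 ^ n ∧ Nat.card D.F = (2 ^ n) ^ 2 ∧
      Nat.card D.H = 2 ^ n - 1 ∧ CharP K 2 ∧ φ ≠ RingEquiv.refl K ∧
      ∀ a : K, a * φ a = 1 → a = 1 := by
  classical
  obtain ⟨n, hno, hn1, hF, hHc, hcyc, hS, hZ⟩ := ZasS.suzuki_structure D hn hH h2 hna
  haveI := hcyc
  obtain ⟨-, hp, -, ⟨t₁, t₂, ht12, ht1, ht1', ht2, ht2'⟩, -⟩ := hS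
  have hs : ZasS.Swaps D := (ZasS.swaps D hn hH).2
  have hodd : Odd (Nat.card D.H) := by
    rw [hHc]
    obtain ⟨k, hk⟩ : Even (2 ^ n) := (Nat.even_pow.2 ⟨even_two, by omega⟩)
    have : 0 < 2 ^ n := by positivity
    exact ⟨k - 1, by omega⟩
  obtain ⟨K, iK, iK', φ', e', w, hK, hchar, hw, hinj', hmul', heq'⟩ :=
    exists_coordinates hp hna ht12 ht1 ht1' ht2 ht2' (ZasS.conjF D).range
      (isCyclic_of_surjective (ZasS.conjF D).rangeRestrict (ZasS.conjF D).rangeRestrict_surjective)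
      (fun x y hx hx2 hy hy2 => by
        obtain ⟨k, hk⟩ := ZasS.involutions_regular D hn hs hodd hx hx2 hy hy2
        refine ⟨⟨ZasS.conjF D k, k, rfl⟩, hk, ?_⟩
        rintro ⟨_, k', rfl⟩ hk'
        exact Subtype.ext (congrArg (ZasS.conjF D) (ZasS.conjF_inj D hx (hk'.trans hk.symm))))
      (by rw [hF, hZ])
  haveI := hchar
  have hk : ∀ c : Kˣ, ∃ k : D.H, ZasS.conjF D k = (w c : MulAut D.F) := fun c => (w c).2
  choose kf hkf using hk
  have he1 : ∀ p q : K × K, e' p * e' q = e' (p.1 + q.1, p.2 + q.2 + φ' p.1 * q.1) :=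
    fun p q => hmul' p.1 p.2 q.1 q.2
  let C : Coords D K φ'.symm :=
    { e := fun p => (e' (p.1, φ' p.2) : G)
      mem := fun p => (e' _).2
      inj := fun p q h => by
        have := e'.injective (Subtype.ext h)
        simp only [Prod.mk.injEq, EmbeddingLike.apply_eq_iff_eq] at this
        exact Prod.ext this.1 this.2
      surj := fun u hu => by
        obtain ⟨p, hp⟩ := e'.surjective ⟨u, hu⟩
        exact ⟨(p.1, φ'.symm p.2), by simp [hp]⟩
      mul := fun p q => by
        rw [← Subgroup.coe_mul, he1]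
        simp only [mulP, map_add, map_mul, RingEquiv.apply_symm_apply]
      h := fun c => if hc : c = 0 then 1 else (kf (Units.mk0 c hc) : G)
      h_mem := fun c hc => by rw [dif_neg hc]; exact (kf _).2
      h_surj := fun k hk => by
        obtain ⟨c, hc⟩ := hw.2 ⟨ZasS.conjF D ⟨k, hk⟩, _, rfl⟩
        refine ⟨c, c.ne_zero, ?_⟩
        rw [dif_neg c.ne_zero, Units.mk0_val]
        have h1 : ZasS.conjF D (kf c) = ZasS.conjF D ⟨k, hk⟩ :=
          (hkf c).trans (congrArg Subtype.val hc)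
        exact congrArg Subtype.val (ZasS.conjF_inj D ht1 (congrArg (fun f : MulAut D.F => f t₁) h1))
      h_conj := fun c hc p => by
        rw [dif_neg hc, ← ZasS.conjF_apply, hkf, heq']
        simp only [sclP, nm, map_mul, RingEquiv.apply_symm_apply, Units.val_mk0]
        congr 3
        ring }
  refine ⟨n, K, iK, iK', φ'.symm, C, hno, hn1, by rw [hK, hZ], hF, hHc, hchar, fun e => ?_, fun a ha => ?_⟩
  · obtain ⟨x, y, hxy⟩ := hna
    obtain ⟨p, rfl⟩ := e'.surjective x
    obtain ⟨q, rfl⟩ := e'.surjective y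
    refine hxy ?_
    have hφ : ∀ z, φ' z = z := fun z => by
      have := congrArg (fun f : K ≃+* K => f (φ' z)) e
      simpa using this.symm
    rw [he1, he1, hφ, hφ]
    congr 2 <;> ring
  · refine hinj' a ?_
    have := congrArg φ' ha
    rw [map_mul, map_one, RingEquiv.apply_symm_apply] at this
    rw [mul_comm]; exact this

/-- Normalised coordinates exist. -/
theorem exists_normal [IsSimpleGroup G] (D : Frame G Ω) (hn : 2 ≤ Nat.card D.F) (hH : D.H ≠ ⊥)
    (h2 : IsPGroup 2 D.F) (hna : ∃ x y : D.F, x * y ≠ y * x) :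
    ∃ (n : ℕ) (K : Type) (_ : Field K) (_ : Fintype K) (φ : K ≃+* K) (C : Coords D K φ) (t : G),
      Odd n ∧ 1 < n ∧ Fintype.card K = 2 ^ n ∧ Nat.card D.F = (2 ^ n) ^ 2 ∧
      Nat.card D.H = 2 ^ n - 1 ∧ CharP K 2 ∧ (∀ c, φ (φ c) * φ (φ c) = c) ∧ IsSwap D t ∧
      Rel C t 1 0 ∧ Rules φ 1 0 (tauOf C t) := by
  classical
  obtain ⟨n, K, iK, iK', φ, C, hno, hn1, hK, hF, hHc, hchar, hnid, hinj⟩ := exists_coords D hn hH h2 hna
  haveI := hchar
  have hs : ZasS.Swaps D := (ZasS.swaps D hn hH).2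
  have mkswap : ∀ s : G, s • D.a = D.b → s • D.b = D.a → IsSwap D s := fun s h1 h2 =>
    ⟨h1, h2, (hs s h1 h2).1, (hs s h1 h2).2⟩
  obtain ⟨s, hsa, hsb⟩ := D.two D.hab D.b_ne
  have S₀ := mkswap s hsa hsb
  set z := C.e (0, 1) with hz
  have hz1 : z ≠ 1 := C.e_ne (Rules.pair_ne (Or.inr one_ne_zero))
  have hz2 : z * z = 1 := by
    rw [hz, C.mul, ← C.e_zero]
    refine congrArg C.e ?_
    simp [mulP, CharTwo.add_self_eq_zero]
  have hza : z • D.a = D.a := D.F_fix _ (C.mem _)
  set f := C.e (tauOf C s (0, 1)) with hf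
  have hfb : (s * z * s) • D.a = f • D.b := by
    rw [mul_smul, mul_smul, hsa]
    exact (pt_tauOf C S₀ (Rules.pair_ne (Or.inr one_ne_zero))).symm
  have hsz : (s * z * s) * (s * z * s) = 1 := by
    calc (s * z * s) * (s * z * s) = s * z * (s * s) * z * s := by group
      _ = s * (z * z) * s := by rw [S₀.t2]; group
      _ = 1 := by rw [hz2, mul_one, S₀.t2]
  have hfa : f • D.a = D.a := D.F_fix _ (C.mem _)
  have ga : (f⁻¹ * (s * z * s) * f) • D.a = D.b := by
    rw [mul_smul, hfa, mul_smul, hfb, inv_smul_smul]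
  have gb : (f⁻¹ * (s * z * s) * f) • D.b = D.a := by
    rw [mul_smul, mul_smul, ← hfb, ← mul_smul (s * z * s), hsz, one_smul, inv_smul_eq_iff, hfa]
  obtain ⟨η, hη, hge⟩ : ∃ η ∈ D.H, s * z * s = f * (η * s) * f⁻¹ :=
    ⟨f⁻¹ * (s * z * s) * f * s⁻¹, D.swap_mul ⟨hsa, hsb⟩ ⟨ga, gb⟩, by group⟩
  set t := η⁻¹ * s with ht
  have hηi := inv_mem hη
  have S : IsSwap D t := mkswap t
    (by rw [ht, mul_smul, hsa]; exact hηi.2) (by rw [ht, mul_smul, hsb]; exact hηi.1)
  obtain ⟨⟨α, β⟩, hq⟩ := C.surj (η⁻¹ * f * η) (by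
    have := D.H_conj hηi (C.mem (tauOf C s (0, 1)))
    rwa [inv_inv] at this)
  have hrel : t * z * t = C.e (α, β) * t * (C.e (α, β))⁻¹ := by
    have e1 : η⁻¹ * s = s * η := (S₀.mul_comm' hη).symm
    have e2 : t * z * t = η⁻¹ * (s * z * s) * η := by
      rw [ht]
      calc η⁻¹ * s * z * (η⁻¹ * s) = η⁻¹ * s * z * (s * η) := by rw [e1]
        _ = _ := by group
    rw [e2, hge, hq, ht]
    calc η⁻¹ * (f * (η * s) * f⁻¹) * η
        = (η⁻¹ * f * η) * (s * η) * (η⁻¹ * f * η)⁻¹ := by group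
      _ = _ := by rw [e1]
  have hα : α ≠ 0 := by
    rintro rfl
    have hβ : β ≠ 0 := by
      rintro rfl
      rw [show ((0 : K), (0 : K)) = 0 from rfl, C.e_zero, one_mul, inv_one, mul_one] at hrel
      have h3 : z * t = 1 := mul_left_cancel (a := t) (by rw [← mul_assoc, hrel, mul_one])
      have h4 := congrArg (fun g : G => g • D.a) h3
      simp only [mul_smul, one_smul, S.ta] at h4
      exact D.F_ne (C.mem _) D.b_ne h4
    have hinjn : Function.Injective (nm φ) := by
      intro c d hcd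
      rcases eq_or_ne d 0 with rfl | hd
      · rw [nm_zero] at hcd
        by_contra h
        exact nm_ne_zero φ h hcd
      · refine (div_eq_one_iff_eq hd).1 (hinj _ ?_)
        show nm φ (c / d) = 1
        rw [div_eq_mul_inv, nm_mul, hcd, ← nm_mul, mul_inv_cancel₀ hd, nm_one]
    obtain ⟨c, hc⟩ := Finite.injective_iff_surjective.1 hinjn β
    have hc0 : c ≠ 0 := fun e => hβ (by rw [← hc, e, nm_zero])
    set w := C.e ((0 : K), β) with hw
    have hw2 : w * w = 1 := by
      rw [hw, C.mul, ← C.e_zero]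
      refine congrArg C.e ?_
      simp [mulP, CharTwo.add_self_eq_zero]
    have hwi : w⁻¹ = w := inv_eq_of_mul_eq_one_right hw2
    rw [hwi] at hrel
    set k := C.h c with hk
    have hwk : w = k * z * k⁻¹ := by
      rw [hw, hz, hk, C.h_conj c hc0]
      simp [sclP, hc]
    have hkm : k ∈ D.H := C.h_mem c hc0
    have e1 : t * w * t = k⁻¹ * (t * z * t) * k := by
      rw [hwk]
      calc t * (k * z * k⁻¹) * t = (t * k) * z * (k⁻¹ * t) := by group
        _ = (k⁻¹ * t) * z * (t * k) := by rw [← S.mul_comm' hkm]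
        _ = _ := by group
    have e2 : z = k⁻¹ * w * t * w * k * w * t := by
      have e3 : z = t * (w * t * w) * t := by
        rw [← hrel]
        calc z = (t * t) * z * (t * t) := by rw [S.t2, one_mul, mul_one]
          _ = _ := by group
      calc z = (t * w * t) * w * t := by rw [e3]; group
        _ = _ := by rw [e1, hrel]; group
    have hwa : w • D.a = D.a := D.F_fix _ (C.mem _)
    have e3 : t • w • k • w • D.b = D.a := by
      have h := congrArg (fun g : G => g • D.a) e2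
      simp only [mul_smul, hza, S.ta] at h
      rw [eq_inv_smul_iff, hkm.1] at h
      exact smul_left_cancel w (h.symm.trans hwa.symm)
    have e4 : C.pt (mulP φ (0, β) (sclP φ c (0, β))) = C.pt 0 := by
      rw [← C.e_smul_pt, ← C.h_smul_pt hc0, C.pt_zero]
      exact smul_left_cancel t (e3.trans S.tb.symm)
    have e5 := congrArg Prod.snd (C.pt_inj e4)
    simp only [mulP, sclP, mul_zero, zero_mul, add_zero, hc, Prod.snd_zero] at e5
    have hβ1 : β = 1 := by
      have h6 : β * (1 + β) = 0 := by linear_combination e5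
      exact (CharTwo.add_eq_zero.1 ((mul_eq_zero.1 h6).resolve_left hβ)).symm
    have hwz : w = z := by rw [hw, hz, hβ1]
    rw [hwz] at hrel
    have h3 : orderOf (t * z) = 3 := by
      haveI := Fact.mk Nat.prime_three
      refine orderOf_eq_prime ?_ fun e => ?_
      · calc (t * z) ^ 3 = (t * z * t) * (z * t * z) := by simp only [pow_succ, pow_zero, one_mul, mul_assoc]
          _ = (z * z) := by
            rw [hrel]
            calc z * t * z * (z * t * z) = z * t * (z * z) * t * z := by group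
              _ = _ := by rw [hz2, mul_one, mul_assoc z t t, S.t2, mul_one, hz2]
          _ = 1 := hz2
      · have h4 := congrArg (fun g : G => g • D.a) e
        simp only [mul_smul, hza, S.ta, one_smul] at h4
        exact D.b_ne h4
    exact not_three_card D hno hF hHc (h3 ▸ orderOf_dvd_natCard _)
  have hrel' : Rel (C.scale hα) t (nm φ α)⁻¹ (β / nm φ α) := by
    show t * C.e (sclP φ α (0, (nm φ α)⁻¹)) * t =
      C.e (sclP φ α (1, β / nm φ α)) * t * (C.e (sclP φ α (1, β / nm φ α)))⁻¹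
    have h1 := nm_ne_zero φ hα
    rw [show sclP φ α (0, (nm φ α)⁻¹) = ((0 : K), (1 : K)) from
        Prod.ext (mul_zero α) (mul_inv_cancel₀ h1),
      show sclP φ α (1, β / nm φ α) = (α, β) from Prod.ext (mul_one α) (mul_div_cancel₀ _ h1)]
    exact hrel
  have hζ := inv_ne_zero (nm_ne_zero φ hα)
  have R := rules (C.scale hα) S hnid hinj hζ hrel'
  have hζ1 := R.zeta_eq_one
  rw [hζ1] at R hrel'
  rcases R.main with ⟨hr, hB⟩ | hr
  · rw [hr] at R hrel'
    exact ⟨n, K, iK, iK', φ, C.scale hα, t, hno, hn1, hK, hF, hHc, hchar, hB, S, hrel', R⟩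
  rw [hr] at hrel'
  have hrel'' : Rel (C.scale hα).twist t 1 0 := by
    show t * (C.scale hα).e ((0 : K), φ 1 + 0 * φ 0) * t =
      (C.scale hα).e ((1 : K), φ 0 + 1 * φ 1) * t * ((C.scale hα).e ((1 : K), φ 0 + 1 * φ 1))⁻¹
    rw [map_one, map_zero, mul_zero, add_zero, one_mul, zero_add]
    exact hrel'
  have hnid' : φ.symm ≠ RingEquiv.refl K := fun e => hnid (RingEquiv.ext fun x => by
    have := congrArg (fun f : K ≃+* K => f (φ x)) e
    simpa using this.symm)
  have hinj'' : ∀ a : K, a * φ.symm a = 1 → a = 1 := fun a ha => hinj a (by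
    have := congrArg φ ha
    rw [map_mul, map_one, RingEquiv.apply_symm_apply] at this
    rw [mul_comm]; exact this)
  have R' := rules (C.scale hα).twist S hnid' hinj'' one_ne_zero hrel''
  rcases R'.main with ⟨-, hB⟩ | h
  · exact ⟨n, K, iK, iK', φ.symm, (C.scale hα).twist, t, hno, hn1, hK, hF, hHc, hchar, hB, S, hrel'', R'⟩
  · exact absurd h zero_ne_one

end Cfsg.Agent.Grp.SuzIdent
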