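import Mathlib

/-!
The structure equation of a rank one group whose root group is a Suzuki 2-group of type A, treated as a
map `τ` on pairs of field elements: it is determined by the field automorphism and one parameter `r`,
the parameter is `0` or `1`, and for `r = 0` the automorphism `φ` satisfies `(φ (φ c)) ^ 2 = c`.
-/

set_option autoImplicit false
set_option linter.style.haveILetI false

namespace Cfsg.Agent.Grp.SuzIdent

open Polynomial

variable {K : Type*} [Field K]

/-- Multiplication of pairs. -/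
def mulP (φ : K ≃+* K) (p q : K × K) : K × K := (p.1 + q.1, p.2 + q.2 + p.1 * φ q.1)

/-- The norm of an element. -/
def nm (φ : K ≃+* K) (c : K) : K := c * φ c

/-- The diagonal action on pairs. -/
def sclP (φ : K ≃+* K) (c : K) (p : K × K) : K × K := (c * p.1, nm φ c * p.2)

theorem nm_mul (φ : K ≃+* K) (c d : K) : nm φ (c * d) = nm φ c * nm φ d := by
  simp only [nm, map_mul]; ring

theorem nm_inv (φ : K ≃+* K) (c : K) : nm φ c⁻¹ = (nm φ c)⁻¹ := by simp [nm, mul_comm]

theorem nm_one (φ : K ≃+* K) : nm φ 1 = 1 := by simp [nm]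

theorem nm_ne_zero (φ : K ≃+* K) {c : K} (hc : c ≠ 0) : nm φ c ≠ 0 :=
  mul_ne_zero hc (by simpa using hc)

theorem nm_zero (φ : K ≃+* K) : nm φ 0 = 0 := by simp [nm]

/-- The rules satisfied by the structure equation. -/
structure Rules (φ : K ≃+* K) (ζ r : K) (τ : K × K → K × K) : Prop where
  nid : φ ≠ RingEquiv.refl K
  inj : ∀ a : K, a * φ a = 1 → a = 1
  zne : ζ ≠ 0
  ne : ∀ p, p ≠ 0 → τ p ≠ 0
  invol : ∀ p, p ≠ 0 → τ (τ p) = p
  scale : ∀ c, c ≠ 0 → ∀ p, p ≠ 0 → τ (sclP φ c p) = sclP φ c⁻¹ (τ p)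
  tz : τ (0, ζ) = (1, r)
  ruleA : ∀ v, v ≠ 0 → v ≠ (1, r) →
    τ (mulP φ (0, ζ) (τ v)) = mulP φ (1, r) (τ (mulP φ (1, r + 1) v))
  ruleB : ∀ v, v ≠ 0 → v ≠ (1, r + 1) →
    τ (mulP φ (1, r) (τ v)) = mulP φ (0, ζ) (τ (mulP φ (1, r) v))

section Power

variable [Finite K]

/-- A multiplicative map of a finite field is a power map. -/
theorem exists_exponent (f : K → K) (hmul : ∀ x y, f (x * y) = f x * f y) (h0 : f 0 = 0) (h1 : f 1 = 1) :
    ∃ A : ℕ, 1 ≤ A ∧ A < Nat.card K ∧ ∀ x, f x = x ^ A := by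
  classical
  haveI := Fintype.ofFinite K
  have hne : ∀ x : K, x ≠ 0 → f x ≠ 0 := fun x hx e => by
    have h := hmul x x⁻¹
    rw [mul_inv_cancel₀ hx, h1, e, zero_mul] at h
    exact one_ne_zero h
  let g : Kˣ →* Kˣ := MonoidHom.mk' (fun u => Units.mk0 (f u) (hne u u.ne_zero))
    (fun u v => Units.ext (by simp [hmul]))
  obtain ⟨m, hm⟩ := g.map_cyclic
  have hc : Nat.card Kˣ + 1 = Nat.card K := by
    rw [Nat.card_units]
    have : 0 < Nat.card K := Nat.card_pos
    omega
  have hN : (Nat.card Kˣ : ℤ) ≠ 0 := Int.natCast_ne_zero.2 Nat.card_pos.ne'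
  set j := (m % (Nat.card Kˣ : ℤ)).toNat with hj
  have hjlt : j < Nat.card Kˣ := by
    have h := Int.emod_lt_of_pos m (show (0 : ℤ) < Nat.card Kˣ by have := Nat.card_pos (α := Kˣ); omega)
    have := Int.emod_nonneg m hN
    omega
  have hu : ∀ u : Kˣ, (f (u : K)) = (u : K) ^ j := fun u => by
    have h : (g u : K) = ((u ^ m : Kˣ) : K) := congrArg Units.val (hm u)
    rw [show ((g u : Kˣ) : K) = f u from rfl] at h
    rw [h, ← Units.val_pow_eq_pow_val]
    congr 1
    rw [← zpow_mod_natCard u m, ← zpow_natCast, hj, Int.toNat_of_nonneg (Int.emod_nonneg m hN)]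
  by_cases h : j = 0
  · refine ⟨Nat.card Kˣ, Nat.card_pos, by omega, fun x => ?_⟩
    by_cases hx : x = 0
    · rw [hx, h0, zero_pow Nat.card_pos.ne']
    · have := hu (Units.mk0 x hx)
      rw [h, pow_zero, Units.val_mk0] at this
      rw [this, ← Units.val_mk0 hx, ← Units.val_pow_eq_pow_val, pow_card_eq_one', Units.val_one]
  · refine ⟨j, by omega, by omega, fun x => ?_⟩
    by_cases hx : x = 0
    · rw [hx, h0, zero_pow h]
    · simpa using hu (Units.mk0 x hx)

/-- Two sums of two field homomorphisms. -/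
theorem hom_pair (f1 f2 f3 f4 : K →+* K) (h : ∀ x, f1 x + f2 x = f3 x + f4 x) (h12 : f1 ≠ f2)
    (h23 : f2 ≠ f3) : f2 = f4 := by
  obtain ⟨y, hy⟩ : ∃ y, f1 y ≠ f2 y := by
    by_contra hc
    push Not at hc
    exact h12 (RingHom.ext hc)
  obtain ⟨z, hz⟩ : ∃ z, f2 z ≠ f3 z := by
    by_contra hc
    push Not at hc
    exact h23 (RingHom.ext hc)
  have step : ∀ x, f2 x * (f2 y - f1 y) = f3 x * (f3 y - f1 y) + f4 x * (f4 y - f1 y) := fun x => by
    have e1 := h (x * y)
    simp only [map_mul] at e1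
    linear_combination e1 - f1 y * h x
  have step2 : ∀ x, f2 x * ((f2 z - f3 z) * (f2 y - f1 y)) = f4 x * ((f4 z - f3 z) * (f4 y - f1 y)) := fun x => by
    have e1 := step (x * z)
    simp only [map_mul] at e1
    linear_combination e1 - f3 z * step x
  have e := step2 1
  rw [map_one, map_one, one_mul, one_mul] at e
  refine RingHom.ext fun x => mul_right_cancel₀ (mul_ne_zero (sub_ne_zero.2 hz) (sub_ne_zero.2 (Ne.symm hy))) ?_
  rw [step2 x, e]

end Power

namespace Rules

variable {φ : K ≃+* K} {ζ r : K} {τ : K × K → K × K}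

theorem nm_eq_one (R : Rules φ ζ r τ) {c : K} (h : nm φ c = 1) : c = 1 := R.inj c h

theorem nm_inj (R : Rules φ ζ r τ) {c d : K} (h : nm φ c = nm φ d) : c = d := by
  by_cases hd : d = 0
  · subst hd
    rw [nm_zero] at h
    by_contra hc
    exact nm_ne_zero φ hc h
  · refine (div_eq_one_iff_eq hd).1 (R.nm_eq_one ?_)
    rw [div_eq_mul_inv, nm_mul, nm_inv, h, mul_inv_cancel₀ (nm_ne_zero φ hd)]

theorem nm_surj [Finite K] (R : Rules φ ζ r τ) (s : K) : ∃ c, nm φ c = s :=
  (Finite.injective_iff_surjective.1 fun _ _ h => R.nm_inj h) s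

theorem exists_nm [Finite K] (R : Rules φ ζ r τ) {s : K} (hs : s ≠ 0) : ∃ c, c ≠ 0 ∧ nm φ c = s := by
  obtain ⟨c, hc⟩ := R.nm_surj s
  exact ⟨c, fun e => hs (by rw [← hc, e, nm_zero]), hc⟩

theorem pair_ne {x y : K} (h : x ≠ 0 ∨ y ≠ 0) : ((x, y) : K × K) ≠ 0 := fun e => by
  obtain ⟨rfl, rfl⟩ := Prod.mk.injEq .. ▸ (e : (x, y) = ((0 : K), (0 : K)))
  simp at h

theorem ta (R : Rules φ ζ r τ) : τ (1, r) = (0, ζ) := by
  rw [← R.tz, R.invol _ (pair_ne (Or.inr R.zne))]

theorem tau_center (R : Rules φ ζ r τ) {c : K} (hc : c ≠ 0) :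
    τ (0, nm φ c * ζ) = (c⁻¹, nm φ c⁻¹ * r) := by
  have h := R.scale c hc (0, ζ) (pair_ne (Or.inr R.zne))
  rw [R.tz] at h
  simpa [sclP] using h

variable [CharP K 2] [Finite K]

theorem zeta_eq_one (R : Rules φ ζ r τ) : ζ = 1 := by
  by_contra hζ
  have h2 := CharTwo.two_eq_zero (R := K)
  have hz := R.zne
  obtain ⟨c, hc, hcn⟩ := R.exists_nm (inv_ne_zero hz)
  obtain ⟨e, he, hen⟩ := R.exists_nm (s := (1 + ζ) / ζ)
    (div_ne_zero (fun e => hζ (CharTwo.add_eq_zero.1 e).symm) hz)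
  have hen' : nm φ e * ζ = 1 + ζ := by rw [hen]; field_simp
  have b0 := R.ruleB (0, ζ) (pair_ne (Or.inr hz)) (fun e => zero_ne_one (congrArg Prod.fst e))
  rw [R.tz] at b0
  have haa : mulP φ (1, r) (1, r) = (0, nm φ c * ζ) := by
    rw [hcn, inv_mul_cancel₀ hz]
    simp [mulP, CharTwo.add_self_eq_zero]
  rw [haa, R.tau_center hc, show mulP φ (1, r) (0, ζ) = (1, r + ζ) by simp [mulP]] at b0
  have hX : (τ (1, r + ζ)).1 = c⁻¹ := by simpa [mulP] using (congrArg Prod.fst b0).symm
  have a0 := R.ruleA (0, nm φ e * ζ) (pair_ne (Or.inr (mul_ne_zero (nm_ne_zero φ he) hz)))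
    (fun e => zero_ne_one (congrArg Prod.fst e))
  have hv : mulP φ (1, r + 1) (0, nm φ e * ζ) = (1, r + ζ) := by
    rw [hen']
    refine Prod.ext ?_ ?_
    · simp [mulP]
    · simp only [mulP, map_zero, mul_zero, add_zero]
      linear_combination h2
  have hw : mulP φ (0, ζ) (e⁻¹, nm φ e⁻¹ * r) = sclP φ e⁻¹ (1, r + 1 + ζ) := by
    refine Prod.ext ?_ ?_
    · simp [mulP, sclP]
    · simp only [mulP, sclP, zero_mul, add_zero]
      have hne : nm φ e⁻¹ * nm φ e = 1 := by rw [← nm_mul, inv_mul_cancel₀ he, nm_one]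
      linear_combination nm φ e⁻¹ * hen' - ζ * hne
  rw [R.tau_center he, hv, hw, R.scale _ (inv_ne_zero he) _ (pair_ne (Or.inl one_ne_zero)), inv_inv] at a0
  have a1 := R.ruleA (0, ζ) (pair_ne (Or.inr hz)) (fun e => zero_ne_one (congrArg Prod.fst e))
  rw [R.tz] at a1
  have hl : mulP φ (0, ζ) (1, r) = (1, r + ζ) := by
    refine Prod.ext ?_ ?_
    · simp [mulP]
    · simp only [mulP, zero_mul, add_zero]; ring
  rw [hl, show mulP φ (1, r + 1) (0, ζ) = (1, r + 1 + ζ) by simp [mulP]] at a1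
  have e1 : e * (τ (1, r + 1 + ζ)).1 = 1 + (τ (1, r + ζ)).1 := by
    simpa [mulP, sclP] using congrArg Prod.fst a0
  have e2 : (τ (1, r + ζ)).1 = 1 + (τ (1, r + 1 + ζ)).1 := by
    simpa [mulP] using congrArg Prod.fst a1
  have e3 : (e - 1) * (τ (1, r + 1 + ζ)).1 = 0 := by linear_combination e1 + e2 + h2
  rcases mul_eq_zero.1 e3 with h | h
  · rw [sub_eq_zero.1 h, nm_one, one_mul] at hen'
    exact one_ne_zero (right_eq_add.1 hen')
  · rw [h, add_zero, hX, inv_eq_one] at e2
    rw [e2, nm_one] at hcn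
    exact hζ (inv_eq_one.1 hcn.symm)

section Normalised

variable (R : Rules φ 1 r τ)
include R

omit [CharP K 2] [Finite K] in
theorem tau_center' {c : K} (hc : c ≠ 0) : τ (0, nm φ c) = (c⁻¹, nm φ c⁻¹ * r) := by
  simpa using R.tau_center hc

theorem tau_ainv : τ (1, r + 1) = (1, r + 1) := by
  have h2 := CharTwo.two_eq_zero (R := K)
  have b0 := R.ruleB (0, 1) (pair_ne (Or.inr one_ne_zero)) (fun e => zero_ne_one (congrArg Prod.fst e))
  rw [R.tz, show mulP φ (1, r) (1, r) = (0, 1) by simp [mulP, CharTwo.add_self_eq_zero],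
    show mulP φ (1, r) (0, 1) = (1, r + 1) by simp [mulP], R.tz] at b0
  have e1 : (τ (1, r + 1)).1 = 1 := by simpa [mulP] using (congrArg Prod.fst b0).symm
  have e2 : r = 1 + (τ (1, r + 1)).2 := by simpa [mulP] using congrArg Prod.snd b0
  refine Prod.ext e1 ?_
  linear_combination -e2 - h2

theorem recursion {c : K} (hc : c ≠ 0) :
    (τ (1, r + nm φ c + 1)).1 = 1 + c * (τ (1, r + nm φ c)).1 ∧
      (τ (1, r + nm φ c + 1)).2 =
        nm φ c * (τ (1, r + nm φ c)).2 + r + φ (τ (1, r + nm φ c + 1)).1 := by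
  have h2 := CharTwo.two_eq_zero (R := K)
  have hn := nm_ne_zero φ hc
  have a0 := R.ruleA (0, nm φ c) (pair_ne (Or.inr hn)) (fun e => zero_ne_one (congrArg Prod.fst e))
  have hw : mulP φ (0, 1) (c⁻¹, nm φ c⁻¹ * r) = sclP φ c⁻¹ (1, r + nm φ c) := by
    refine Prod.ext ?_ ?_
    · simp [mulP, sclP]
    · simp only [mulP, sclP, zero_mul, add_zero]
      have hne : nm φ c⁻¹ * nm φ c = 1 := by rw [← nm_mul, inv_mul_cancel₀ hc, nm_one]
      linear_combination -hne
  rw [R.tau_center' hc, hw, R.scale _ (inv_ne_zero hc) _ (pair_ne (Or.inl one_ne_zero)), inv_inv,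
    show mulP φ (1, r + 1) (0, nm φ c) = (1, r + nm φ c + 1) by simp [mulP]; ring] at a0
  have e1 : c * (τ (1, r + nm φ c)).1 = 1 + (τ (1, r + nm φ c + 1)).1 := by
    simpa [mulP, sclP] using congrArg Prod.fst a0
  have e2 : nm φ c * (τ (1, r + nm φ c)).2 =
      r + (τ (1, r + nm φ c + 1)).2 + φ (τ (1, r + nm φ c + 1)).1 := by
    simpa [mulP, sclP] using congrArg Prod.snd a0
  constructor
  · linear_combination -e1 - h2
  · linear_combination -e2 - (r + φ (τ (1, r + nm φ c + 1)).1) * h2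

theorem solve_at {c d : K} (hc : c ≠ 0) (hc1 : c ≠ 1) (hd : nm φ d = 1 + nm φ c) :
    ∃ μ : K, μ * nm φ (1 + c) = (r + 1) * nm φ c + r + c + r * nm φ (1 + c) ∧
      (τ (1, r + μ)).1 = (1 + c⁻¹) * (1 + d⁻¹) := by
  have h2 := CharTwo.two_eq_zero (R := K)
  have hd0 : d ≠ 0 := by
    rintro rfl
    rw [nm_zero] at hd
    exact hc1 (R.nm_eq_one (CharTwo.add_eq_zero.1 hd.symm).symm)
  set k := 1 + c⁻¹ with hk
  have hk0 : k ≠ 0 := fun e => hc1 (inv_eq_one.1 (CharTwo.add_eq_zero.1 e).symm)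
  set v : K × K := (c⁻¹, nm φ c⁻¹ * r) with hv
  have hv0 : v ≠ 0 := pair_ne (Or.inl (inv_ne_zero hc))
  have hτv : τ v = (0, nm φ c) := by
    rw [hv, ← R.tau_center' hc, R.invol _ (pair_ne (Or.inr (nm_ne_zero φ hc)))]
  have a0 := R.ruleA v hv0 (fun e => hc1 (inv_eq_one.1 (congrArg Prod.fst e)))
  rw [hτv, show mulP φ (0, 1) (0, nm φ c) = (0, nm φ d) by simp [mulP, hd], R.tau_center' hd0] at a0
  set m := (r + 1 + nm φ c⁻¹ * r + φ c⁻¹) / nm φ k + r with hm
  have hw : mulP φ (1, r + 1) v = sclP φ k (1, r + m) := by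
    refine Prod.ext ?_ ?_
    · simp [mulP, sclP, hv, hk]
    · simp only [mulP, sclP, hv, hm]
      rw [show r + ((r + 1 + nm φ c⁻¹ * r + φ c⁻¹) / nm φ k + r) =
          (r + 1 + nm φ c⁻¹ * r + φ c⁻¹) / nm φ k by linear_combination r * h2,
        mul_div_cancel₀ _ (nm_ne_zero φ hk0)]
      ring
  rw [hw, R.scale k hk0 _ (pair_ne (Or.inl one_ne_zero))] at a0
  have e1 : d⁻¹ = 1 + k⁻¹ * (τ (1, r + m)).1 := by
    simpa [mulP, sclP] using congrArg Prod.fst a0
  refine ⟨m, ?_, ?_⟩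
  · have hkn : nm φ (1 + c) = nm φ c * nm φ k := by
      rw [← nm_mul, hk, mul_add, mul_inv_cancel₀ hc]; ring_nf
    have hcc : nm φ c * nm φ c⁻¹ = 1 := by rw [← nm_mul, mul_inv_cancel₀ hc, nm_one]
    have hcp : nm φ c * φ c⁻¹ = c := by
      simp only [nm, map_inv₀]
      rw [mul_assoc, mul_inv_cancel₀ (by simpa using hc), mul_one]
    rw [hm, add_mul, div_mul_eq_mul_div, hkn, ← mul_assoc, mul_div_cancel_right₀ _ (nm_ne_zero φ hk0)]
    linear_combination r * hcc + hcp
  · have : (τ (1, r + m)).1 = k * (d⁻¹ - 1) := by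
      rw [e1, add_sub_cancel_left, ← mul_assoc, mul_inv_cancel₀ hk0, one_mul]
    rw [this, CharTwo.sub_eq_add, add_comm d⁻¹]

theorem sym_eq {c d : K} (hc : c ≠ 0) (hc1 : c ≠ 1) (hd : nm φ d = 1 + nm φ c) :
    nm φ (1 + c + d) = nm φ c * nm φ (c + d) * (1 + φ c + r * (c + φ c)) := by
  have h2 := CharTwo.two_eq_zero (R := K)
  have hd0 : d ≠ 0 := by
    rintro rfl
    rw [nm_zero] at hd
    exact hc1 (R.nm_eq_one (CharTwo.add_eq_zero.1 hd.symm).symm)
  have hc1' : 1 + c ≠ 0 := fun e => hc1 (CharTwo.add_eq_zero.1 e).symm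
  have hcd : c + d ≠ 0 := fun e => by
    rw [CharTwo.add_eq_zero.1 e] at hd
    exact one_ne_zero (right_eq_add.1 hd)
  obtain ⟨μ, hμ, hX⟩ := R.solve_at hc hc1 hd
  obtain ⟨ν, hν, hY⟩ := R.solve_at (c := c⁻¹) (d := d / c) (inv_ne_zero hc)
    (fun e => hc1 (inv_eq_one.1 e)) (by
      rw [div_eq_mul_inv, nm_mul, hd]
      have hcc : nm φ c * nm φ c⁻¹ = 1 := by rw [← nm_mul, mul_inv_cancel₀ hc, nm_one]
      linear_combination hcc)
  have hn1 : nm φ (1 + c) = 1 + nm φ c + c + φ c := by simp only [nm, map_add, map_one]; ring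
  have hν' : ν * nm φ (1 + c) = 1 + φ c + r * (c + φ c) := by
    have hcc : nm φ c⁻¹ * nm φ c = 1 := by rw [← nm_mul, inv_mul_cancel₀ hc, nm_one]
    have hcp : nm φ c * c⁻¹ = φ c := by simp only [nm]; field_simp
    have hk : nm φ c * nm φ (1 + c⁻¹) = nm φ (1 + c) := by
      rw [← nm_mul, mul_add, mul_inv_cancel₀ hc]; ring_nf
    linear_combination nm φ c * hν - ν * hk + r * hk + (r + 1) * hcc + hcp + r * hn1 +
      (r + r * nm φ c) * h2
  have hμν : μ = ν + 1 := by
    refine mul_right_cancel₀ (nm_ne_zero φ hc1') ?_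
    rw [add_mul, one_mul, hμ, hν', hn1]
    linear_combination (r * nm φ c + r - φ c - 1) * h2
  rw [inv_inv, inv_div] at hY
  have hYne : (1 + c) * (1 + c / d) ≠ 0 := by
    refine mul_ne_zero hc1' ?_
    rw [one_add_div hd0, add_comm]
    exact div_ne_zero hcd hd0
  have hν0 : ν ≠ 0 := by
    intro e
    rw [e, add_zero, R.ta] at hY
    exact hYne hY.symm
  obtain ⟨b, hb, hbn⟩ := R.exists_nm hν0
  obtain ⟨hr1, -⟩ := R.recursion hb
  rw [hbn, add_assoc, ← hμν, hX, hY] at hr1
  have hb' : b * (c * (1 + c) * (c + d)) = 1 + c + d := by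
    field_simp at hr1
    linear_combination -hr1
  have e := congrArg (nm φ) hb'
  rw [nm_mul, nm_mul, nm_mul, hbn] at e
  rw [← e, ← hν']
  ring

theorem trace_eq {c d : K} (hd : nm φ c + nm φ d = 1) :
    (r * (nm φ c * c) + (1 + r) * (nm φ c * φ c)) + (r * (nm φ d * d) + (1 + r) * (nm φ d * φ d)) = 1 := by
  have h2 := CharTwo.two_eq_zero (R := K)
  by_cases hc : c = 0
  · subst hc
    rw [nm_zero, zero_add] at hd
    obtain rfl := R.nm_eq_one hd
    simp only [nm_zero, nm_one, map_zero, map_one]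
    linear_combination r * h2
  by_cases hc1 : c = 1
  · subst hc1
    rw [nm_one] at hd
    have hd0 : d = 0 := by
      by_contra h
      exact nm_ne_zero φ h (add_eq_left.1 hd)
    subst hd0
    simp only [nm_zero, nm_one, map_zero, map_one]
    linear_combination r * h2
  have hd' : nm φ d = 1 + nm φ c := by linear_combination hd - nm φ c * h2
  have hd0 : d ≠ 0 := by
    rintro rfl
    rw [nm_zero, add_zero] at hd
    exact hc1 (R.nm_eq_one hd)
  have hd1 : d ≠ 1 := by
    rintro rfl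
    rw [nm_one, add_eq_right] at hd
    exact nm_ne_zero φ hc hd
  have hcd : c + d ≠ 0 := fun e => by
    rw [CharTwo.add_eq_zero.1 e, CharTwo.add_self_eq_zero] at hd
    exact zero_ne_one hd
  have e1 := R.sym_eq hc hc1 hd'
  have e2 := R.sym_eq (d := c) hd0 hd1 (by linear_combination hd - nm φ d * h2)
  rw [add_right_comm 1 d c, add_comm d c] at e2
  have e3 : nm φ c * (1 + φ c + r * (c + φ c)) = nm φ d * (1 + φ d + r * (d + φ d)) :=
    mul_left_cancel₀ (nm_ne_zero φ hcd) (by linear_combination e2 - e1)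
  linear_combination -e3 - hd + (r * (nm φ c * c) + (1 + r) * (nm φ c * φ c) + nm φ c - 1) * h2

/-- An automorphism identity from a power of two exponent. -/
theorem twist_of_A {a : ℕ} (h : ∀ c, nm φ c * c = nm φ c ^ 2 ^ a) : ∀ c, φ (φ c) = c * c := by
  have h2 := CharTwo.two_eq_zero (R := K)
  haveI : ExpChar K 2 := ExpChar.prime Nat.prime_two
  let ψ : K →+* K := iterateFrobenius K 2 a
  have hψ : ∀ x, ψ x = x ^ 2 ^ a := fun x => iterateFrobenius_def 2 a x
  have key : ∀ c, (frobenius K 2) c + (φ : K →+* K) c = ψ c + (ψ.comp (φ : K →+* K)) c := by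
    intro c
    have e0 : nm φ c * c = ψ c * ψ (φ c) := by rw [h c, ← hψ, ← map_mul]; rfl
    have e1 : nm φ (c + 1) * (c + 1) = ψ (c + 1) * ψ (φ (c + 1)) := by rw [h, ← hψ, ← map_mul]; rfl
    simp only [nm, map_add, map_one] at e0 e1
    show c ^ 2 + φ c = ψ c + ψ (φ c)
    linear_combination e1 - e0 - (c * φ c + c) * h2
  have hψi : Function.Injective ψ := ψ.injective
  by_cases h12 : (frobenius K 2) = (φ : K →+* K)
  · exfalso
    refine R.nid (RingEquiv.ext fun c => (hψi (a₁ := c) (a₂ := φ c) ?_).symm)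
    have e := key c
    rw [h12, CharTwo.add_self_eq_zero] at e
    exact CharTwo.add_eq_zero.1 e.symm
  by_cases h23 : (φ : K →+* K) = ψ
  · intro c
    have e := key c
    rw [← h23] at e
    have e' : c ^ 2 + φ c = φ c + φ (φ c) := e
    linear_combination -e'
  · exfalso
    have e := hom_pair _ _ _ _ key h12 h23
    have hid : ∀ x, ψ x = x := fun x => by
      obtain ⟨y, rfl⟩ := φ.surjective x
      exact (RingHom.congr_fun e y).symm
    refine R.nid (RingEquiv.ext fun c => ?_)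
    have hc := key c
    have e' : c ^ 2 + φ c = c + φ c := by
      have : ψ c + ψ (φ c) = c + φ c := by rw [hid, hid]
      exact (hc : c ^ 2 + φ c = ψ c + ψ (φ c)).trans this
    have hcc : c * (c - 1) = 0 := by linear_combination e'
    rcases mul_eq_zero.1 hcc with h0 | h0
    · rw [h0, map_zero, map_zero]
    · rw [sub_eq_zero.1 h0, map_one, map_one]

/-- An automorphism identity from a power of two exponent. -/
theorem twist_of_B {a : ℕ} (h : ∀ c, nm φ c * φ c = nm φ c ^ 2 ^ a) : ∀ c, φ (φ c) * φ (φ c) = c := by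
  have h2 := CharTwo.two_eq_zero (R := K)
  haveI : ExpChar K 2 := ExpChar.prime Nat.prime_two
  let ψ : K →+* K := iterateFrobenius K 2 a
  have hψ : ∀ x, ψ x = x ^ 2 ^ a := fun x => iterateFrobenius_def 2 a x
  have key : ∀ c, (RingHom.id K) c + ((frobenius K 2).comp (φ : K →+* K)) c =
      ψ c + (ψ.comp (φ : K →+* K)) c := by
    intro c
    have e0 : nm φ c * φ c = ψ c * ψ (φ c) := by rw [h c, ← hψ, ← map_mul]; rfl
    have e1 : nm φ (c + 1) * φ (c + 1) = ψ (c + 1) * ψ (φ (c + 1)) := by rw [h, ← hψ, ← map_mul]; rfl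
    simp only [nm, map_add, map_one] at e0 e1
    show c + φ c ^ 2 = ψ c + ψ (φ c)
    linear_combination e1 - e0 - (c * φ c + φ c) * h2
  have hψi : Function.Injective ψ := ψ.injective
  by_cases h12 : RingHom.id K = (frobenius K 2).comp (φ : K →+* K)
  · exfalso
    refine R.nid (RingEquiv.ext fun c => (hψi (a₁ := c) (a₂ := φ c) ?_).symm)
    have e := key c
    rw [← h12, CharTwo.add_self_eq_zero] at e
    exact CharTwo.add_eq_zero.1 e.symm
  by_cases h23 : (frobenius K 2).comp (φ : K →+* K) = ψ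
  · intro c
    have hb : ∀ x, ψ x = φ x ^ 2 := fun x => (RingHom.congr_fun h23 x).symm
    have e : c + φ c ^ 2 = ψ c + ψ (φ c) := key c
    rw [hb, hb] at e
    linear_combination -e
  · exfalso
    have e := hom_pair _ _ _ _ key h12 h23
    have hsq : ∀ x, ψ x = x ^ 2 := fun x => by
      obtain ⟨y, rfl⟩ := φ.surjective x
      exact (RingHom.congr_fun e y).symm
    refine R.nid (RingEquiv.ext fun c => ?_)
    have e' : c + φ c ^ 2 = ψ c + ψ (φ c) := key c
    rw [hsq, hsq] at e'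
    have hcc : c * (c - 1) = 0 := by linear_combination -e'
    rcases mul_eq_zero.1 hcc with h0 | h0
    · rw [h0, map_zero, map_zero]
    · rw [sub_eq_zero.1 h0, map_one, map_one]

/-- The two possibilities exclude each other. -/
theorem twist_false (hA : ∀ c, φ (φ c) = c * c) (hB : ∀ c, φ (φ c) * φ (φ c) = c) : False := by
  have h2 := CharTwo.two_eq_zero (R := K)
  refine R.nid (RingEquiv.ext fun c => ?_)
  by_contra hne
  have hc0 : c ≠ 0 := fun e => hne (by rw [e, map_zero, map_zero])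
  have hc1 : c ≠ 1 := fun e => hne (by rw [e, map_one, map_one])
  have h4 : ∀ x : K, x ≠ 0 → x ≠ 1 → x * x + x + 1 = 0 := by
    intro x hx0 hx1
    have e : x * ((x - 1) * (x * x + x + 1)) = 0 := by
      have := hB x
      rw [hA] at this
      linear_combination this
    exact ((mul_eq_zero.1 ((mul_eq_zero.1 e).resolve_left hx0)).resolve_left (sub_ne_zero.2 hx1))
  have e1 := h4 c hc0 hc1
  have e2 := h4 (φ c) (by simpa using hc0) (by simpa using hc1)
  have e3 : (φ c - c) * (φ c + c + 1) = 0 := by linear_combination e2 - e1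
  rcases mul_eq_zero.1 e3 with h | h
  · exact hne (sub_eq_zero.1 h)
  · have hφ : φ c = c * c := by linear_combination h - e1
    have e4 := hA c
    rw [hφ, map_mul, hφ] at e4
    have e5 : c * c * ((c - 1) * (c + 1)) = 0 := by linear_combination e4
    rcases mul_eq_zero.1 e5 with h' | h'
    · exact mul_ne_zero hc0 hc0 h'
    · rcases mul_eq_zero.1 h' with h'' | h''
      · exact hc1 (sub_eq_zero.1 h'')
      · exact hc1 (CharTwo.add_eq_zero.1 h'')

theorem main : (r = 0 ∧ ∀ c, φ (φ c) * φ (φ c) = c) ∨ r = 1 := by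
  classical
  haveI := Fintype.ofFinite K
  haveI := Fact.mk Nat.prime_two
  have h2 := CharTwo.two_eq_zero (R := K)
  have hb : Function.Bijective (nm φ) := ⟨fun _ _ h => R.nm_inj h, R.nm_surj⟩
  set ι := (Equiv.ofBijective _ hb).symm with hι
  have hι1 : ∀ s, nm φ (ι s) = s := fun s => (Equiv.ofBijective _ hb).apply_symm_apply s
  have hι2 : ∀ c, ι (nm φ c) = c := fun c => (Equiv.ofBijective _ hb).symm_apply_apply c
  have hιm : ∀ x y, ι (x * y) = ι x * ι y := fun x y => hb.1 (by rw [nm_mul, hι1, hι1, hι1])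
  have hι0 : ι 0 = 0 := hb.1 (by rw [hι1, nm_zero])
  have hι1' : ι 1 = 1 := hb.1 (by rw [hι1, nm_one])
  obtain ⟨A, hA1, hAq, hA⟩ := exists_exponent (fun s => s * ι s)
    (fun x y => by rw [hιm]; ring) (by rw [zero_mul]) (by rw [hι1', mul_one])
  obtain ⟨B, hB1, hBq, hB⟩ := exists_exponent (fun s => s * φ (ι s))
    (fun x y => by rw [hιm, map_mul]; ring) (by rw [zero_mul]) (by rw [hι1', map_one, mul_one])
  let P : K[X] := C r * ((1 + X) ^ A + X ^ A) + C (1 + r) * ((1 + X) ^ B + X ^ B) + 1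
  have hP : P = 0 := by
    refine Polynomial.eq_zero_of_natDegree_lt_card_of_eval_eq_zero' P Finset.univ (fun s _ => ?_) ?_
    · have e := R.trace_eq (c := ι s) (d := ι (1 + s)) (by rw [hι1, hι1]; linear_combination s * h2)
      rw [hι1, hι1, hA, hA, hB, hB] at e
      simp only [P, eval_add, eval_mul, eval_C, eval_pow, eval_X, eval_one]
      linear_combination e + h2
    · have hdeg : ∀ n : ℕ, ((1 + X) ^ n + X ^ n : K[X]).natDegree ≤ n := fun n =>
        (natDegree_add_le _ _).trans (max_le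
          ((natDegree_pow_le_of_le n (m := 1) ((natDegree_add_le _ _).trans (by simp))).trans (mul_one n).le)
          (natDegree_X_pow_le n))
      have : P.natDegree ≤ max A B := by
        refine (natDegree_add_le _ _).trans (max_le ((natDegree_add_le _ _).trans (max_le ?_ ?_)) (by simp))
        · exact ((natDegree_C_mul_le _ _).trans (hdeg A)).trans (le_max_left _ _)
        · exact ((natDegree_C_mul_le _ _).trans (hdeg B)).trans (le_max_right _ _)
      rw [Finset.card_univ, ← Nat.card_eq_fintype_card]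
      omega
  have hbit : ∀ n : ℕ, (n : K) = 0 ∨ (n : K) = 1 := fun n => by
    rcases Nat.mod_two_eq_zero_or_one n with h | h
    · exact Or.inl (by rw [CharP.cast_eq_mod K 2, h, Nat.cast_zero])
    · exact Or.inr (by rw [CharP.cast_eq_mod K 2, h, Nat.cast_one])
  let β : ℕ → ℕ → K := fun n k => (n.choose k : K) + if k = n then 1 else 0
  have hβ : ∀ n k, β n k = 0 ∨ β n k = 1 := fun n k => by
    show (n.choose k : K) + _ = 0 ∨ (n.choose k : K) + _ = 1
    split_ifs with h
    · subst h; left; rw [Nat.choose_self, Nat.cast_one, CharTwo.add_self_eq_zero]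
    · rw [add_zero]; exact hbit _
  have hcoef : ∀ k, 1 ≤ k → r * β A k + (1 + r) * β B k = 0 := by
    intro k hk
    have h := congrArg (fun p => Polynomial.coeff p k) hP
    simp only [P, coeff_add, coeff_C_mul, coeff_one_add_X_pow, coeff_X_pow, coeff_zero, coeff_one,
      show k ≠ 0 by omega, if_false, add_zero] at h
    exact h
  have hpow : ∀ n : ℕ, 1 ≤ n → (¬ ∃ i, n = 2 ^ i) → ∃ k, 1 ≤ k ∧ β n k = 1 := by
    intro n hn hne
    by_contra hc
    push Not at hc
    refine hne ⟨_, Choose.eq_pow_multiplicity_of_choose_modEq_zero_nat (p := 2) hn fun i hi => ?_⟩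
    rw [Finset.mem_Icc] at hi
    have h := (hβ n i).resolve_right (hc i hi.1)
    simp only [β, show i ≠ n by omega, if_false, add_zero] at h
    exact (Nat.modEq_zero_iff_dvd).2 ((CharP.cast_eq_zero_iff K 2 _).1 h)
  by_cases hr1 : r = 1
  · exact Or.inr hr1
  left
  have hBpow : ∃ i, B = 2 ^ i := by
    by_contra hne
    obtain ⟨k, hk, hkB⟩ := hpow B hB1 hne
    have h := hcoef k hk
    rw [hkB, mul_one] at h
    rcases hβ A k with e | e
    · rw [e, mul_zero, zero_add] at h
      exact hr1 (CharTwo.add_eq_zero.1 h).symm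
    · rw [e, mul_one] at h
      exact one_ne_zero (by linear_combination h - r * h2 : (1 : K) = 0)
  have hTB : ∀ c, φ (φ c) * φ (φ c) = c := by
    obtain ⟨i, hi⟩ := hBpow
    exact R.twist_of_B fun c => by
      have := hB (nm φ c)
      rwa [hι2, hi] at this
  refine ⟨?_, hTB⟩
  by_contra hr0
  have hApow : ∃ i, A = 2 ^ i := by
    by_contra hne
    obtain ⟨k, hk, hkA⟩ := hpow A hA1 hne
    have h := hcoef k hk
    rw [hkA, mul_one] at h
    rcases hβ B k with e | e
    · rw [e, mul_zero, add_zero] at h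
      exact hr0 h
    · rw [e, mul_one] at h
      exact one_ne_zero (by linear_combination h - r * h2 : (1 : K) = 0)
  obtain ⟨i, hi⟩ := hApow
  exact R.twist_false (R.twist_of_A fun c => by
      have := hA (nm φ c)
      rwa [hι2, hi] at this) hTB

/-- The map is determined by the parameters. -/
theorem unique {τ' : K × K → K × K} (R' : Rules φ 1 r τ') {p : K × K} (hp : p ≠ 0) : τ p = τ' p := by
  have h2 := CharTwo.two_eq_zero (R := K)
  have hW : ∀ μ : K, τ (1, r + μ) = τ' (1, r + μ) := by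
    intro μ
    by_cases hμ : μ = 0
    · rw [hμ, add_zero, R.ta, R'.ta]
    by_cases hμ1 : μ = 1
    · rw [hμ1, R.tau_ainv, R'.tau_ainv]
    obtain ⟨c, hc, hcn⟩ := R.exists_nm hμ
    obtain ⟨d, hd, hdn⟩ := R.exists_nm (s := μ + 1) fun e => hμ1 (CharTwo.add_eq_zero.1 e)
    obtain ⟨x1, y1⟩ := R.recursion hc
    obtain ⟨x2, y2⟩ := R.recursion hd
    obtain ⟨x1', y1'⟩ := R'.recursion hc
    obtain ⟨x2', y2'⟩ := R'.recursion hd
    have hback : r + (μ + 1) + 1 = r + μ := by linear_combination h2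
    rw [hdn, hback] at x2 y2 x2' y2'
    rw [hcn, add_assoc r μ 1] at x1 y1 x1' y1'
    have hne : 1 - d * c ≠ 0 := by
      intro e
      have h1 := congrArg (nm φ) (sub_eq_zero.1 e)
      rw [nm_one, nm_mul, hdn, hcn] at h1
      rw [x1] at x2
      have hd1 : (1 : K) + d = 0 := by
        linear_combination -x2 + (τ (1, r + μ)).1 * e
      rw [← CharTwo.add_eq_zero.1 hd1, nm_one] at hdn
      exact hμ (add_eq_right.1 hdn.symm)
    have hX : (τ (1, r + μ)).1 = (τ' (1, r + μ)).1 := by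
      refine mul_left_cancel₀ hne ?_
      rw [x1] at x2
      rw [x1'] at x2'
      linear_combination x2 - x2'
    have hX1 : (τ (1, r + (μ + 1))).1 = (τ' (1, r + (μ + 1))).1 := by rw [x1, x1', hX]
    refine Prod.ext hX ?_
    have hne' : 1 - (μ + 1) * μ ≠ 0 := by
      intro e
      refine hne ?_
      have h1 : nm φ (d * c) = 1 := by rw [nm_mul, hdn, hcn]; linear_combination -e
      rw [R.nm_eq_one h1, sub_self]
    refine mul_left_cancel₀ hne' ?_
    rw [y1, hX1] at y2
    rw [y1'] at y2'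
    rw [hX] at y2
    linear_combination y2 - y2'
  obtain ⟨x, y⟩ := p
  by_cases hx : x = 0
  · subst hx
    have hy : y ≠ 0 := fun e => hp (by rw [e]; rfl)
    obtain ⟨c, hc, rfl⟩ := R.exists_nm hy
    rw [R.tau_center' hc, R'.tau_center' hc]
  · have e : (x, y) = sclP φ x (1, r + (y / nm φ x + r)) := by
      refine Prod.ext ?_ ?_
      · simp [sclP]
      · simp only [sclP]
        have hn := nm_ne_zero φ hx
        rw [show r + (y / nm φ x + r) = y / nm φ x by linear_combination r * h2, mul_div_cancel₀ _ hn]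
    rw [e, R.scale x hx _ (pair_ne (Or.inl one_ne_zero)), R'.scale x hx _ (pair_ne (Or.inl one_ne_zero)), hW]

end Normalised

end Rules

end Cfsg.Agent.Grp.SuzIdent
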