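import Cfsg.Agent.Lib.Grp.SuzIdent.Coord
import Cfsg.Agent.Lib.Grp.SuzIdent.Rules
import Cfsg.Agent.Lib.Grp.ZasSuzuki

/-!
Coordinates for a simple Zassenhaus group with a nonabelian kernel: the kernel becomes pairs of field
elements, and an exchanging involution satisfies the structure equation.
-/

set_option autoImplicit false
set_option linter.style.haveILetI false
set_option linter.unusedSectionVars false

namespace Cfsg.Agent.Grp.SuzIdent

open MulAction Cfsg.Agent.Block.Zas Cfsg.Agent.Grp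

universe u v

variable {G : Type u} {Ω : Type v} [Group G] [MulAction G Ω] [Finite G]

/-- Coordinates on the kernel in which the two-point stabilizer is diagonal. -/
structure Coords (D : Frame G Ω) (K : Type) [Field K] (φ : K ≃+* K) where
  e : K × K → G
  mem : ∀ p, e p ∈ D.F
  inj : Function.Injective e
  surj : ∀ u ∈ D.F, ∃ p, e p = u
  mul : ∀ p q, e p * e q = e (mulP φ p q)
  h : K → G
  h_mem : ∀ c, c ≠ 0 → h c ∈ D.H
  h_surj : ∀ k ∈ D.H, ∃ c, c ≠ 0 ∧ h c = k
  h_conj : ∀ c, c ≠ 0 → ∀ p, h c * e p * (h c)⁻¹ = e (sclP φ c p)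

/-- An element exchanging the two base points, of order two and inverting their stabilizer. -/
structure IsSwap (D : Frame G Ω) (t : G) : Prop where
  ta : t • D.a = D.b
  tb : t • D.b = D.a
  t2 : t * t = 1
  tinv : ∀ k ∈ D.H, t * k * t⁻¹ = k⁻¹

theorem IsSwap.inv_eq {D : Frame G Ω} {t : G} (S : IsSwap D t) : t⁻¹ = t :=
  inv_eq_of_mul_eq_one_left S.t2

theorem IsSwap.mul_comm' {D : Frame G Ω} {t : G} (S : IsSwap D t) {k : G} (hk : k ∈ D.H) :
    t * k = k⁻¹ * t := by
  rw [← S.tinv k hk, inv_mul_cancel_right]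

namespace Coords

variable {D : Frame G Ω} {K : Type} [Field K] {φ : K ≃+* K} (C : Coords D K φ)

theorem e_zero : C.e 0 = 1 := by
  have h := C.mul 0 0
  have e0 : mulP φ (0 : K × K) 0 = 0 := by simp [mulP]
  rw [e0] at h
  exact mul_eq_left.1 h

theorem e_ne {p : K × K} (hp : p ≠ 0) : C.e p ≠ 1 := fun e => hp (C.inj (e.trans C.e_zero.symm))

theorem h_eq {c : K} (hc : c ≠ 0) {k : G} (hk : k ∈ D.H)
    (e : k * C.e (1, 0) * k⁻¹ = C.e (c, 0)) : k = C.h c := by
  have e' : C.h c * C.e (1, 0) * (C.h c)⁻¹ = C.e (c, 0) := by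
    rw [C.h_conj c hc]; simp [sclP]
  have hf : ((C.h c)⁻¹ * k) * C.e (1, 0) * ((C.h c)⁻¹ * k)⁻¹ = C.e (1, 0) := by
    calc ((C.h c)⁻¹ * k) * C.e (1, 0) * ((C.h c)⁻¹ * k)⁻¹
        = (C.h c)⁻¹ * (k * C.e (1, 0) * k⁻¹) * C.h c := by group
      _ = _ := by rw [e, ← e']; group
  rcases D.fpf (mul_mem (inv_mem (C.h_mem c hc)) hk) (C.mem _) hf with h1 | h1
  · exact absurd h1 (C.e_ne (Rules.pair_ne (Or.inl one_ne_zero)))
  · exact (inv_mul_eq_one.1 h1).symm

theorem h_inv {c : K} (hc : c ≠ 0) : (C.h c)⁻¹ = C.h c⁻¹ := by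
  refine C.h_eq (inv_ne_zero hc) (inv_mem (C.h_mem c hc)) ?_
  have h := C.h_conj c hc (c⁻¹, 0)
  simp only [sclP, mul_inv_cancel₀ hc, mul_zero] at h
  rw [← h]; group

/-- The point attached to a pair. -/
def pt (p : K × K) : Ω := C.e p • D.b

theorem pt_ne (p : K × K) : C.pt p ≠ D.a := D.F_ne (C.mem p) D.b_ne

theorem pt_inj {p q : K × K} (h : C.pt p = C.pt q) : p = q :=
  C.inj (D.F_inj (C.mem p) (C.mem q) D.b_ne h)

theorem pt_zero : C.pt 0 = D.b := by rw [pt, C.e_zero, one_smul]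

theorem exists_pt {x : Ω} (hx : x ≠ D.a) : ∃ p, C.pt p = x := by
  obtain ⟨u, hu, hub⟩ := D.exists_F hx
  obtain ⟨p, rfl⟩ := C.surj u hu
  exact ⟨p, hub⟩

theorem e_smul_pt (p q : K × K) : C.e p • C.pt q = C.pt (mulP φ p q) := by
  rw [pt, pt, ← C.mul, mul_smul]

theorem h_smul_pt {c : K} (hc : c ≠ 0) (p : K × K) : C.h c • C.pt p = C.pt (sclP φ c p) := by
  rw [pt, pt, ← C.h_conj c hc, mul_smul, mul_smul, smul_left_cancel_iff, smul_left_cancel_iff,
    eq_inv_smul_iff]
  exact (C.h_mem c hc).2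

/-- Replace the coordinates by diagonally rescaled ones. -/
def scale {α : K} (hα : α ≠ 0) : Coords D K φ where
  e p := C.e (sclP φ α p)
  mem p := C.mem _
  inj p q h := by
    have := C.inj h
    simp only [sclP, Prod.mk.injEq] at this
    exact Prod.ext (mul_left_cancel₀ hα this.1) (mul_left_cancel₀ (nm_ne_zero φ hα) this.2)
  surj u hu := by
    obtain ⟨p, rfl⟩ := C.surj u hu
    refine ⟨sclP φ α⁻¹ p, congrArg C.e ?_⟩
    simp only [sclP, ← mul_assoc, mul_inv_cancel₀ hα, ← nm_mul, nm_one, one_mul]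
  mul p q := by
    rw [C.mul]
    refine congrArg C.e ?_
    simp only [sclP, mulP, nm, map_mul, Prod.mk.injEq]
    exact ⟨by ring, by ring⟩
  h := C.h
  h_mem := C.h_mem
  h_surj := C.h_surj
  h_conj c hc p := by
    rw [C.h_conj c hc]
    refine congrArg C.e ?_
    simp only [sclP, nm, Prod.mk.injEq]
    exact ⟨by ring, by ring⟩

/-- Transport along an isomorphism of fields. -/
def congr {L : Type} [Field L] (ψ : L ≃+* K) {φ' : L ≃+* L} (hφ : ∀ x, ψ (φ' x) = φ (ψ x)) :
    Coords D L φ' where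
  e p := C.e (ψ p.1, ψ p.2)
  mem p := C.mem _
  inj p q h := by
    have := C.inj h
    simp only [Prod.mk.injEq, EmbeddingLike.apply_eq_iff_eq] at this
    exact Prod.ext this.1 this.2
  surj u hu := by
    obtain ⟨p, rfl⟩ := C.surj u hu
    exact ⟨(ψ.symm p.1, ψ.symm p.2), by simp⟩
  mul p q := by
    rw [C.mul]
    refine congrArg C.e ?_
    simp only [mulP, map_add, map_mul, hφ]
  h c := C.h (ψ c)
  h_mem c hc := C.h_mem _ (by simpa using hc)
  h_surj k hk := by
    obtain ⟨c, hc, rfl⟩ := C.h_surj k hk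
    exact ⟨ψ.symm c, by simpa using hc, by simp⟩
  h_conj c hc p := by
    rw [C.h_conj _ (by simpa using hc)]
    refine congrArg C.e ?_
    simp only [sclP, nm, map_mul, hφ]

variable [CharP K 2]

/-- The recoordinatization exchanging the two normalisations. -/
def twist : Coords D K φ.symm where
  e p := C.e (p.1, φ p.2 + p.1 * φ p.1)
  mem p := C.mem _
  inj p q h := by
    have := C.inj h
    simp only [Prod.mk.injEq] at this
    obtain ⟨h1, h2⟩ := this
    refine Prod.ext h1 (φ.injective ?_)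
    rw [h1] at h2
    exact add_right_cancel h2
  surj u hu := by
    obtain ⟨p, rfl⟩ := C.surj u hu
    refine ⟨(p.1, φ.symm (p.2 + p.1 * φ p.1)), congrArg C.e ?_⟩
    simp only [RingEquiv.apply_symm_apply, add_assoc, CharTwo.add_self_eq_zero, add_zero]
  mul p q := by
    rw [C.mul]
    refine congrArg C.e ?_
    simp only [mulP, map_add, map_mul, RingEquiv.apply_symm_apply, Prod.mk.injEq, true_and]
    linear_combination -(φ p.1 * q.1) * CharTwo.two_eq_zero (R := K)
  h := C.h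
  h_mem := C.h_mem
  h_surj := C.h_surj
  h_conj c hc p := by
    rw [C.h_conj c hc]
    refine congrArg C.e ?_
    simp only [sclP, nm, map_mul, RingEquiv.apply_symm_apply, Prod.mk.injEq, true_and]
    ring

end Coords

/-- The relation between the swap and two elements of the kernel. -/
def Rel {D : Frame G Ω} {K : Type} [Field K] {φ : K ≃+* K} (C : Coords D K φ) (t : G) (ζ r : K) :
    Prop :=
  t * C.e (0, ζ) * t = C.e (1, r) * t * (C.e (1, r))⁻¹

/-- The map induced by the swap on pairs. -/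
noncomputable def tauOf {D : Frame G Ω} {K : Type} [Field K] {φ : K ≃+* K} (C : Coords D K φ) (t : G)
    (p : K × K) : K × K :=
  open scoped _root_.Classical in
  if h : ∃ q, C.pt q = t • C.pt p then h.choose else 0

section Tau

variable {D : Frame G Ω} {K : Type} [Field K] {φ : K ≃+* K} (C : Coords D K φ) {t : G}

theorem pt_tauOf (S : IsSwap D t) {p : K × K} (hp : p ≠ 0) : C.pt (tauOf C t p) = t • C.pt p := by
  have h : ∃ q, C.pt q = t • C.pt p := C.exists_pt fun e => hp (C.pt_inj (by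
    rw [C.pt_zero]
    exact smul_left_cancel t (e.trans S.tb.symm)))
  rw [tauOf, dif_pos h]
  exact h.choose_spec

theorem smul_t_pt_zero (S : IsSwap D t) : t • C.pt 0 = D.a := by rw [C.pt_zero, S.tb]

theorem rules [CharP K 2] (S : IsSwap D t) {ζ r : K} (hnid : φ ≠ RingEquiv.refl K)
    (hinj : ∀ a : K, a * φ a = 1 → a = 1) (hζ : ζ ≠ 0) (hr : Rel C t ζ r) :
    Rules φ ζ r (tauOf C t) := by
  have htt : ∀ x : Ω, t • t • x = x := fun x => by rw [← mul_smul, S.t2, one_smul]
  have hne : ∀ p : K × K, p ≠ 0 → tauOf C t p ≠ 0 := fun p hp e => by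
    have h := pt_tauOf C S hp
    rw [e, C.pt_zero] at h
    exact C.pt_ne p (smul_left_cancel t (h.symm.trans S.ta.symm))
  have hA : C.e (1, r) * C.e (1, r + 1) = 1 := by
    rw [C.mul, ← C.e_zero]
    refine congrArg C.e ?_
    simp only [mulP, map_one, mul_one, CharTwo.add_self_eq_zero]
    exact Prod.ext rfl (show r + (r + 1) + 1 = 0 by linear_combination (r + 1) * CharTwo.two_eq_zero (R := K))
  have hAi : (C.e (1, r))⁻¹ = C.e (1, r + 1) := inv_eq_of_mul_eq_one_right hA
  have hr' : C.e (0, ζ) * t * C.e (1, r) = t * C.e (1, r) * t := by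
    have e1 : C.e (0, ζ) = t * (C.e (1, r) * t * (C.e (1, r))⁻¹) * t := by
      rw [← hr]
      calc C.e (0, ζ) = (t * t) * C.e (0, ζ) * (t * t) := by rw [S.t2, one_mul, mul_one]
        _ = _ := by group
    rw [e1]
    calc t * (C.e (1, r) * t * (C.e (1, r))⁻¹) * t * t * C.e (1, r)
        = t * C.e (1, r) * t * (C.e (1, r))⁻¹ * (t * t) * C.e (1, r) := by group
      _ = _ := by rw [S.t2]; group
  have hzero : ∀ v : K × K, v ≠ (1, r + 1) → mulP φ (1, r) v ≠ 0 := by
    intro v hv e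
    refine hv (C.inj ?_)
    have h1 : C.e (1, r) * C.e v = 1 := by rw [C.mul, e, C.e_zero]
    exact (eq_inv_of_mul_eq_one_right h1).trans hAi
  have hzero' : ∀ v : K × K, v ≠ (1, r) → mulP φ (1, r + 1) v ≠ 0 := by
    intro v hv e
    refine hv (C.inj ?_)
    have h1 : C.e (1, r + 1) * C.e v = 1 := by rw [C.mul, e, C.e_zero]
    rw [eq_inv_of_mul_eq_one_right h1, ← hAi, inv_inv]
  refine ⟨hnid, hinj, hζ, hne, fun p hp => C.pt_inj ?_, fun c hc p hp => C.pt_inj ?_, C.pt_inj ?_,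
    fun v hv hv' => C.pt_inj ?_, fun v hv hv' => C.pt_inj ?_⟩
  · rw [pt_tauOf C S (hne p hp), pt_tauOf C S hp, htt]
  · have hsp : sclP φ c p ≠ 0 := fun e => hp (by
      have h := congrArg (sclP φ c⁻¹) e
      simpa [sclP, ← mul_assoc, inv_mul_cancel₀ hc, ← nm_mul, nm_one, Prod.ext_iff] using h)
    rw [pt_tauOf C S hsp, ← C.h_smul_pt hc, ← C.h_smul_pt (inv_ne_zero hc), pt_tauOf C S hp,
      ← C.h_inv hc, ← mul_smul, ← mul_smul, S.mul_comm' (C.h_mem c hc)]
  · have h := congrArg (fun g : G => g • D.a) hr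
    simp only [mul_smul, S.ta] at h
    rw [inv_smul_eq_iff.2 (D.F_fix _ (C.mem _)).symm, S.ta] at h
    rw [pt_tauOf C S (Rules.pair_ne (Or.inr hζ))]
    exact h
  · set p := mulP φ (0, ζ) (tauOf C t v) with hp
    have h : t • C.pt p = C.pt (mulP φ (1, r) (tauOf C t (mulP φ (1, r + 1) v))) := by
      rw [hp, ← C.e_smul_pt, pt_tauOf C S hv, ← mul_smul, ← mul_smul, hr, hAi, mul_smul, mul_smul,
        C.e_smul_pt, ← pt_tauOf C S (hzero' v hv'), C.e_smul_pt]
    have hp0 : p ≠ 0 := fun e => by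
      rw [e, smul_t_pt_zero C S] at h
      exact C.pt_ne _ h.symm
    rw [pt_tauOf C S hp0, h]
  · set p := mulP φ (1, r) (tauOf C t v) with hp
    have h : t • C.pt p = C.pt (mulP φ (0, ζ) (tauOf C t (mulP φ (1, r) v))) := by
      rw [hp, ← C.e_smul_pt, pt_tauOf C S hv, ← mul_smul, ← mul_smul, ← hr', mul_smul, mul_smul,
        C.e_smul_pt, ← pt_tauOf C S (hzero v hv'), C.e_smul_pt]
    have hp0 : p ≠ 0 := fun e => by
      rw [e, smul_t_pt_zero C S] at h
      exact C.pt_ne _ h.symm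
    rw [pt_tauOf C S hp0, h]

end Tau

end Cfsg.Agent.Grp.SuzIdent
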